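import Cfsg.Agent.H614.Ortho

/-!
# Completeness of Frobenius' functions

* `column_ortho`, `expand` : the functions `F_{β(λ)}`, `λ ⊢ n ≤ m`, form an orthonormal basis;
* `exists_betaOf` : each strictly increasing tuple of size `n` is `betaOf λ`;
* `raise_eq` : raising, `∑_j F_{γ + r e_j} (s) = r m_r(s) F_γ (s - r)`.
-/

set_option autoImplicit false

namespace Cfsg.Agent.H614

open Finset

variable {m : ℕ}

theorem alt_raise {W : Type*} [AddCommGroup W] {Φ : (Fin m → ℕ) → W} (hΦ : Alt Φ) (r : ℕ) :
    Alt (fun γ => ∑ j, Φ (up γ j r)) := by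
  intro σ γ
  simp only
  rw [Finset.smul_sum, ← Equiv.sum_comp σ (fun j => sg σ • Φ (up γ j r))]
  refine Finset.sum_congr rfl fun j _ => ?_
  rw [up_comp, hΦ]

theorem row_ortho {n : ℕ} (hn : n ≤ m) (ν ν' : n.Partition) :
    Z n (fun s => (FM s (betaOf m ν.parts) : ℚ) * FM s (betaOf m ν'.parts)) =
      if ν = ν' then 1 else 0 := by
  have h1 := card_le_of_partition ν hn
  have h2 := card_le_of_partition ν' hn
  rw [ortho n _ _ (by rw [sum_betaOf h1, ν.parts_sum])]
  by_cases h : ν = ν'
  · subst h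
    rw [pair_self_of_strictMono (betaOf_strictMono h1)]; simp
  · rw [pair_eq_zero_of_strictMono (betaOf_strictMono h1) (betaOf_strictMono h2), if_neg h]
    · simp
    · intro h'
      apply h
      apply Nat.Partition.ext
      apply betaOf_inj h1 h2 _ _ h'
      · intro h0; exact absurd (ν.parts_pos h0) (lt_irrefl 0)
      · intro h0; exact absurd (ν'.parts_pos h0) (lt_irrefl 0)

/-- The character table as a square matrix. -/
noncomputable def tab (m n : ℕ) : Matrix n.Partition n.Partition ℚ :=
  Matrix.of fun ν κ => (FM κ.parts (betaOf m ν.parts) : ℚ)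

theorem tab_mul {n : ℕ} (hn : n ≤ m) :
    tab m n * (Matrix.diagonal (fun κ : n.Partition => ((zz κ.parts : ℚ))⁻¹) *
      (tab m n).transpose) = 1 := by
  ext ν ν'
  rw [← Matrix.mul_assoc, Matrix.mul_apply, Matrix.one_apply, ← row_ortho hn]
  unfold Z
  refine Finset.sum_congr rfl fun κ _ => ?_
  rw [Matrix.mul_diagonal]
  simp only [tab, Matrix.of_apply, Matrix.transpose_apply]
  ring

/-- Column orthogonality. -/
theorem column_ortho {n : ℕ} (hn : n ≤ m) (κ κ' : n.Partition) :
    ∑ ν : n.Partition, (FM κ.parts (betaOf m ν.parts) : ℚ) * FM κ'.parts (betaOf m ν.parts) =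
      if κ = κ' then (zz κ.parts : ℚ) else 0 := by
  have h := mul_eq_one_comm.mp (tab_mul hn)
  have h1 := congrFun (congrFun h κ) κ'
  rw [Matrix.mul_assoc, Matrix.diagonal_mul, Matrix.one_apply, Matrix.mul_apply] at h1
  have h3 : (zz κ.parts : ℚ) ≠ 0 := by
    have : 0 < zz κ.parts := zz_pos fun i hi => κ.parts_pos hi
    exact_mod_cast this.ne'
  have h4 : ∑ ν : n.Partition, (FM κ.parts (betaOf m ν.parts) : ℚ) * FM κ'.parts (betaOf m ν.parts) =
      (zz κ.parts : ℚ) * ((zz κ.parts : ℚ)⁻¹ * ∑ j, (tab m n).transpose κ j * tab m n j κ') := by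
    rw [← mul_assoc, mul_inv_cancel₀ h3, one_mul]
    exact Finset.sum_congr rfl fun ν _ => by simp [tab]
  rw [h4, h1]
  split_ifs <;> simp

/-- Expansion in the basis of Frobenius' functions. -/
theorem expand {n : ℕ} (hn : n ≤ m) (f : Multiset ℕ → ℚ) (κ : n.Partition) :
    f κ.parts = ∑ ν : n.Partition, Z n (fun t => f t * FM t (betaOf m ν.parts)) *
      FM κ.parts (betaOf m ν.parts) := by
  unfold Z
  simp only [Finset.sum_mul]
  rw [Finset.sum_comm]
  have h1 : ∀ κ' : n.Partition, ∑ ν : n.Partition, (f κ'.parts * FM κ'.parts (betaOf m ν.parts) /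
      zz κ'.parts) * FM κ.parts (betaOf m ν.parts) =
      f κ'.parts / zz κ'.parts * (if κ' = κ then (zz κ'.parts : ℚ) else 0) := by
    intro κ'
    rw [← column_ortho hn, Finset.mul_sum]
    exact Finset.sum_congr rfl fun ν _ => by ring
  rw [Finset.sum_congr rfl (fun κ' _ => h1 κ'), Finset.sum_eq_single κ]
  · have h3 : (zz κ.parts : ℚ) ≠ 0 := by
      have : 0 < zz κ.parts := zz_pos fun i hi => κ.parts_pos hi
      exact_mod_cast this.ne'
    rw [if_pos rfl]; field_simp
  · intro κ' _ h; rw [if_neg h]; simp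
  · simp

theorem exists_betaOf {n : ℕ} (hn : n ≤ m) {β : Fin m → ℕ} (hβ : StrictMono β)
    (hs : ∑ i, β i = n + ∑ i : Fin m, (i : ℕ)) : ∃ ν : n.Partition, β = betaOf m ν.parts := by
  by_contra hne
  push Not at hne
  apply FM_eq_zero_of_Z n _ hs hβ
  intro s h1 h2
  have h3 := expand hn (fun s => (FM s β : ℚ)) ⟨s, fun {i} hi => h2 i hi, h1⟩
  simp only at h3
  rw [Finset.sum_eq_zero] at h3
  · exact_mod_cast h3
  · intro ν _
    rw [ortho n _ _ hs, pair_eq_zero_of_strictMono hβ
      (betaOf_strictMono (card_le_of_partition ν hn)) (hne ν)]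
    simp

/-- Two functions on partitions with the same inner products agree. -/
theorem ext_Z {n : ℕ} (hn : n ≤ m) {f g : Multiset ℕ → ℚ}
    (h : ∀ β : Fin m → ℕ, StrictMono β → ∑ i, β i = n + ∑ i : Fin m, (i : ℕ) →
      Z n (fun t => f t * FM t β) = Z n (fun t => g t * FM t β))
    {s : Multiset ℕ} (h1 : s.sum = n) (h2 : ∀ i ∈ s, 0 < i) : f s = g s := by
  have h3 := expand hn f ⟨s, fun {i} hi => h2 i hi, h1⟩
  have h4 := expand hn g ⟨s, fun {i} hi => h2 i hi, h1⟩
  simp only at h3 h4
  rw [h3, h4]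
  refine Finset.sum_congr rfl fun ν _ => ?_
  have h5 := card_le_of_partition ν hn
  rw [h _ (betaOf_strictMono h5) (by rw [sum_betaOf h5, ν.parts_sum])]

/-- **Raising.** -/
theorem raise_eq {r : ℕ} (hr : 0 < r) {s : Multiset ℕ} (hs : s.sum ≤ m) (hpos : ∀ i ∈ s, 0 < i)
    (γ : Fin m → ℕ) :
    ∑ j, FM s (up γ j r) = (r * s.count r : ℕ) * FM (s.erase r) γ := by
  obtain ⟨n, hn⟩ : ∃ n, n = s.sum := ⟨_, rfl⟩
  by_cases hγ : ∑ i, γ i + r = n + ∑ i : Fin m, (i : ℕ)
  · by_cases hrn : r ≤ n
    · have key : ∀ β : Fin m → ℕ, StrictMono β → ∑ i, β i = n + ∑ i : Fin m, (i : ℕ) →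
          Z n (fun t => (∑ j, (FM t (up γ j r) : ℚ)) * FM t β) =
          Z n (fun t => ((r * t.count r : ℕ) * (FM (t.erase r) γ : ℚ)) * FM t β) := by
        intro β _ _
        have e1 : Z n (fun t => (∑ j, (FM t (up γ j r) : ℚ)) * FM t β) =
            ((∑ j, pair (up γ j r) β : ℤ) : ℚ) := by
          simp only [Finset.sum_mul]
          rw [Z_finsum]
          push_cast
          refine Finset.sum_congr rfl fun j _ => ?_
          apply ortho
          rw [sum_up]; exact hγ
        have e2 : Z n (fun t => ((r * t.count r : ℕ) * (FM (t.erase r) γ : ℚ)) * FM t β) =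
            ((∑ j, pair (up γ j r) β : ℤ) : ℚ) := by
          rw [← pair_dn_up]
          have e3 : Z n (fun t => ((r * t.count r : ℕ) * (FM (t.erase r) γ : ℚ)) * FM t β) =
              Z n (fun t => ((r * t.count r : ℕ) : ℚ) * ((FM (t.erase r) γ : ℚ) * FM t β)) :=
            Z_congr fun t _ _ => by ring
          rw [e3, Z_mark hr hrn]
          have e4 : ∀ t : Multiset ℕ, (FM ((r ::ₘ t).erase r) γ : ℚ) * FM (r ::ₘ t) β =
              ∑ k, if r ≤ β k then (FM t γ : ℚ) * FM t (dn β k r) else 0 := by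
            intro t
            rw [Multiset.erase_cons_head, FM_cons]
            push_cast
            rw [Finset.mul_sum]
            exact Finset.sum_congr rfl fun k _ => by split_ifs <;> simp
          simp only [e4]
          rw [Z_finsum]
          push_cast
          refine Finset.sum_congr rfl fun k _ => ?_
          by_cases hk : r ≤ β k
          · simp only [hk, if_true]
            apply ortho
            omega
          · simp only [hk, if_false]; simp [Z]
        rw [e1, e2]
      have h5 := ext_Z (by omega : n ≤ m) key hn.symm hpos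
      exact_mod_cast h5
    · have h1 : r ∉ s := fun h => hrn (by rw [hn]; exact Multiset.le_sum_of_mem h)
      rw [Multiset.count_eq_zero.mpr h1]
      simp only [mul_zero, Nat.cast_zero, zero_mul]
      apply (alt_raise (FM_alt s) r).eq_zero_of_not_injective two_torsion_int
      intro hinj
      have := sum_le_of_injective hinj
      omega
  · have h1 : ∑ j, FM s (up γ j r) = 0 := by
      refine Finset.sum_eq_zero fun j _ => FM_eq_zero_of_sum s ?_
      rw [sum_up, ← hn]; exact hγ
    rw [h1]
    by_cases hrs : r ∈ s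
    · rw [FM_eq_zero_of_sum (s.erase r), mul_zero]
      intro h2
      apply hγ
      have h3 := congrArg Multiset.sum (Multiset.cons_erase hrs)
      rw [Multiset.sum_cons] at h3
      omega
    · rw [Multiset.count_eq_zero.mpr hrs]; simp

end Cfsg.Agent.H614
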