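import Cfsg.Agent.Characters.Core
import Cfsg.Agent.Characters.GaloisBasic
import Cfsg.Agent.Blocks.AvgTrace
import Cfsg.Agent.Blocks.LocalRing
import Cfsg.Agent.S0909

/-!
# Sets of irreducible characters separated over the `p`-regular elements

If the members of a set `U` of irreducible characters are orthogonal over the `p`-regular elements to
all irreducible characters outside `U`, then `U` is a union of `p`-blocks.
-/

set_option autoImplicit false
set_option linter.unusedSectionVars false

namespace Cfsg.Agent.H614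

open Finset Cfsg Cfsg.Agent.Characters.Core Cfsg.Agent.Blocks.LocalRing
open scoped ComplexConjugate

universe u

variable {G : Type u} [Group G] [Fintype G] [Fintype (IrrCharacter G)]

/-- Second orthogonality, non-conjugate elements. -/
theorem sum_irr_conj_eq_zero {y z : G} (h : ¬ IsConj y z) :
    ∑ φ : IrrCharacter G, (φ : G → ℂ) y * conj ((φ : G → ℂ) z) = 0 := by
  classical
  set I : G → ℂ := fun g => if IsConj g z then 1 else 0 with hI
  have hcl : IsClassFunction G I := by
    intro g k
    simp only [hI]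
    have h1 : IsConj (k * g * k⁻¹) z ↔ IsConj g z := by
      have h2 : IsConj g (k * g * k⁻¹) := isConj_iff.mpr ⟨k, rfl⟩
      exact ⟨fun h3 => h2.trans h3, fun h3 => h2.symm.trans h3⟩
    simp only [h1]
  have h1 := classFunction_eq_sum hcl
  have h2 : ∀ φ : IrrCharacter G, classInner I (φ : G → ℂ) =
      ((Nat.card G : ℂ)⁻¹ * (#{g | IsConj g z} : ℂ)) * conj ((φ : G → ℂ) z) := by
    intro φ
    rw [classInner_def, mul_assoc]
    congr 1
    have h3 : ∀ g, I g * conj ((φ : G → ℂ) g) = if IsConj g z then conj ((φ : G → ℂ) z) else 0 := by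
      intro g
      simp only [hI]
      split_ifs with h4
      · rw [classFunction_apply_eq (isIrr_isClassFunction φ.2) h4, one_mul]
      · simp
    rw [Finset.sum_congr rfl (fun g _ => h3 g), ← Finset.sum_filter, Finset.sum_const, nsmul_eq_mul]
  have h3 := congrFun h1 y
  rw [Finset.sum_apply] at h3
  simp only [h2, Pi.smul_apply, smul_eq_mul] at h3
  have h4 : I y = 0 := if_neg h
  rw [h4] at h3
  have h5 : ∑ φ : IrrCharacter G, (Nat.card G : ℂ)⁻¹ * (#{g | IsConj g z} : ℂ) *
      conj ((φ : G → ℂ) z) * (φ : G → ℂ) y =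
      ((Nat.card G : ℂ)⁻¹ * (#{g | IsConj g z} : ℂ)) *
        ∑ φ : IrrCharacter G, (φ : G → ℂ) y * conj ((φ : G → ℂ) z) := by
    rw [Finset.mul_sum]
    exact Finset.sum_congr rfl fun φ _ => by ring
  rw [h5] at h3
  have h6 : ((Nat.card G : ℂ)⁻¹ * (#{g | IsConj g z} : ℂ)) ≠ 0 := by
    refine mul_ne_zero (inv_ne_zero card_ne_zero_complex) ?_
    have : 0 < #{g | IsConj g z} := Finset.card_pos.mpr
      ⟨z, Finset.mem_filter.mpr ⟨Finset.mem_univ _, IsConj.refl z⟩⟩
    exact_mod_cast this.ne'
  exact (mul_eq_zero.mp h3.symm).resolve_left h6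

section Kernel

variable (p : ℕ) (U : Set (IrrCharacter G))

open scoped Classical in
/-- The hypothesis of separation over the `p`-regular elements. -/
def Separated : Prop :=
  ∀ χ ∈ U, ∀ ψ ∉ U, ∑ g : G, (if ¬ p ∣ orderOf g then (χ : G → ℂ) g * conj ((ψ : G → ℂ) g) else 0) = 0

variable {p U}

open scoped Classical in
theorem separated_singular (h : Separated p U) {χ ψ : IrrCharacter G} (hχ : χ ∈ U) (hψ : ψ ∉ U) :
    ∑ g : G, (if p ∣ orderOf g then (χ : G → ℂ) g * conj ((ψ : G → ℂ) g) else 0) = 0 := by
  have h1 := h χ hχ ψ hψ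
  have hne : (χ : G → ℂ) ≠ ψ := fun h' => hψ (Subtype.ext h' ▸ hχ)
  have h2 := classInner_irr_ne χ.2 ψ.2 hne
  rw [classInner_def] at h2
  have h3 := (mul_eq_zero.mp h2).resolve_left (inv_ne_zero card_ne_zero_complex)
  have h4 : ∑ g : G, (χ : G → ℂ) g * conj ((ψ : G → ℂ) g) =
      ∑ g : G, (if p ∣ orderOf g then (χ : G → ℂ) g * conj ((ψ : G → ℂ) g) else 0) +
      ∑ g : G, (if ¬ p ∣ orderOf g then (χ : G → ℂ) g * conj ((ψ : G → ℂ) g) else 0) := by
    rw [← Finset.sum_add_distrib]
    exact Finset.sum_congr rfl fun g _ => by split_ifs <;> simp_all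
  rw [h4, h1, add_zero] at h3
  exact h3

open scoped Classical in
theorem separated_singular' (h : Separated p U) {χ ψ : IrrCharacter G} (hχ : χ ∉ U) (hψ : ψ ∈ U) :
    ∑ g : G, (if p ∣ orderOf g then (χ : G → ℂ) g * conj ((ψ : G → ℂ) g) else 0) = 0 := by
  have h1 := congrArg conj (separated_singular h hψ hχ)
  rw [map_zero, map_sum] at h1
  refine Eq.trans ?_ h1
  refine Finset.sum_congr rfl fun g _ => ?_
  split_ifs
  · rw [map_mul, Complex.conj_conj, mul_comm]
  · simp

open scoped Classical in
/-- The kernel vanishes at pairs of a `p`-singular and a `p`-regular element. -/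
theorem kernel_eq_zero (h : Separated p U) {y z : G} (hy : p ∣ orderOf y) (hz : ¬ p ∣ orderOf z) :
    ∑ φ : IrrCharacter G, (if φ ∈ U then (φ : G → ℂ) y * conj ((φ : G → ℂ) z) else 0) = 0 := by
  set θ : G → ℂ := fun g => if p ∣ orderOf g then
    ∑ φ : IrrCharacter G, (if φ ∈ U then (φ : G → ℂ) g * conj ((φ : G → ℂ) z) else 0) else 0 with hθ
  have horder : ∀ g k : G, orderOf (k * g * k⁻¹) = orderOf g := fun g k => by
    have := orderOf_injective (MulAut.conj k).toMonoidHom (MulAut.conj k).injective g
    simpa using this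
  have hcl : IsClassFunction G θ := by
    intro g k
    simp only [hθ, horder]
    split_ifs
    · refine Finset.sum_congr rfl fun φ _ => ?_
      rw [isIrr_isClassFunction φ.2 g k]
    · rfl
  have h0 : θ = 0 := by
    apply classFunction_eq_zero hcl
    intro ψ' hψ'
    obtain ⟨ψ, rfl⟩ : ∃ ψ : IrrCharacter G, ψ' = (ψ : G → ℂ) := ⟨⟨ψ', hψ'⟩, rfl⟩
    rw [classInner_def]
    apply mul_eq_zero_of_right
    have h1 : ∑ g : G, θ g * conj ((ψ : G → ℂ) g) =
        ∑ φ : IrrCharacter G, (if φ ∈ U then conj ((φ : G → ℂ) z) *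
          ∑ g : G, (if p ∣ orderOf g then (φ : G → ℂ) g * conj ((ψ : G → ℂ) g) else 0) else 0) := by
      have h2 : ∀ g : G, θ g * conj ((ψ : G → ℂ) g) = ∑ φ : IrrCharacter G,
          (if φ ∈ U then conj ((φ : G → ℂ) z) *
            (if p ∣ orderOf g then (φ : G → ℂ) g * conj ((ψ : G → ℂ) g) else 0) else 0) := by
        intro g
        simp only [hθ]
        by_cases hg : p ∣ orderOf g
        · simp only [hg, if_true]
          rw [Finset.sum_mul]
          refine Finset.sum_congr rfl fun φ _ => ?_
          split_ifs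
          · ring
          · simp
        · simp only [hg, if_false]; simp
      simp only [h2]
      rw [Finset.sum_comm]
      refine Finset.sum_congr rfl fun φ _ => ?_
      split_ifs
      · rw [Finset.mul_sum]
      · simp
    rw [h1]
    by_cases hψU : ψ ∈ U
    · -- compare with the full sum
      have h2 : ∑ φ : IrrCharacter G, conj ((φ : G → ℂ) z) *
          ∑ g : G, (if p ∣ orderOf g then (φ : G → ℂ) g * conj ((ψ : G → ℂ) g) else 0) = 0 := by
        have h3 : ∑ φ : IrrCharacter G, conj ((φ : G → ℂ) z) *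
          ∑ g : G, (if p ∣ orderOf g then (φ : G → ℂ) g * conj ((ψ : G → ℂ) g) else 0) =
          ∑ g : G, (if p ∣ orderOf g then (∑ φ : IrrCharacter G, (φ : G → ℂ) g *
            conj ((φ : G → ℂ) z)) * conj ((ψ : G → ℂ) g) else 0) := by
          simp only [Finset.mul_sum]
          rw [Finset.sum_comm]
          refine Finset.sum_congr rfl fun g _ => ?_
          split_ifs
          · rw [Finset.sum_mul]
            exact Finset.sum_congr rfl fun φ _ => by ring
          · simp
        rw [h3]
        refine Finset.sum_eq_zero fun g _ => ?_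
        split_ifs with hg
        · rw [sum_irr_conj_eq_zero, zero_mul]
          intro hc
          obtain ⟨k, hk⟩ := isConj_iff.mp hc
          rw [← hk, horder] at hz
          exact hz hg
        · rfl
      refine Eq.trans ?_ h2
      refine Finset.sum_congr rfl fun φ _ => ?_
      split_ifs with hφ
      · rfl
      · rw [separated_singular' h hφ hψU, mul_zero]
    · refine Finset.sum_eq_zero fun φ _ => ?_
      split_ifs with hφ
      · rw [separated_singular h hφ hψU, mul_zero]
      · rfl
  have h2 := congrFun h0 y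
  simp only [hθ, hy, if_true, Pi.zero_apply] at h2
  exact h2

open scoped Classical in
theorem kernel_eq_zero' (h : Separated p U) {y z : G} (hy : ¬ p ∣ orderOf y) (hz : p ∣ orderOf z) :
    ∑ φ : IrrCharacter G, (if φ ∈ U then (φ : G → ℂ) y * conj ((φ : G → ℂ) z) else 0) = 0 := by
  have h1 := congrArg conj (kernel_eq_zero h hz hy)
  rw [map_zero, map_sum] at h1
  refine Eq.trans ?_ h1
  refine Finset.sum_congr rfl fun φ _ => ?_
  split_ifs
  · rw [map_mul, Complex.conj_conj, mul_comm]
  · simp

open scoped Classical in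
theorem blockCoeff_eq_ite (g : G) : blockCoeff U g = (Nat.card G : ℂ)⁻¹ *
    ∑ φ : IrrCharacter G, (if φ ∈ U then (φ : G → ℂ) 1 * conj ((φ : G → ℂ) g) else 0) := by
  have h : blockCoeff U g = (Nat.card G : ℂ)⁻¹ *
    ∑ᶠ χ ∈ U, (χ : G → ℂ) 1 * conj ((χ : G → ℂ) g) := rfl
  rw [h, finsum_mem_eq_finite_toFinset_sum _ (Set.toFinite U), ← Finset.sum_filter]
  congr 1
  refine Finset.sum_congr ?_ fun _ _ => rfl
  ext χ; simp

end Kernel

/-- **The idempotent of a separated set is `p`-locally integral.** -/
theorem memLocalRing_of_separated {p : ℕ} [hp : Fact p.Prime] {M : Ideal AlgInt}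
    (hM : IsPModular p M) {U : Set (IrrCharacter G)} (h : Separated p U) (g : G) :
    MemLocalRing M (blockCoeff U g) := by
  classical
  rw [blockCoeff_eq_ite]
  by_cases hg : p ∣ orderOf g
  · rw [kernel_eq_zero' h (by rw [orderOf_one]; exact hp.out.one_lt.ne' ∘ Nat.dvd_one.mp) hg, mul_zero]
    exact memLocalRing_zero hM
  · obtain ⟨P⟩ : Nonempty (Sylow p G) := inferInstance
    have h1 : ∑ x : (P : Subgroup G), ∑ φ : IrrCharacter G,
        (if φ ∈ U then (φ : G → ℂ) (x : G) * conj ((φ : G → ℂ) g) else 0) =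
        ∑ φ : IrrCharacter G, (if φ ∈ U then (φ : G → ℂ) 1 * conj ((φ : G → ℂ) g) else 0) := by
      rw [Finset.sum_eq_single (1 : (P : Subgroup G))]
      · simp
      · intro x _ hx
        apply kernel_eq_zero h _ hg
        have hx' : (x : G) ≠ 1 := fun h' => hx (Subtype.ext h')
        obtain ⟨k, hk⟩ := (IsPGroup.iff_orderOf.mp P.isPGroup') x
        rw [← Subgroup.orderOf_coe] at hk
        rw [hk]
        apply dvd_pow_self
        rintro rfl
        rw [pow_zero, orderOf_eq_one_iff] at hk
        exact hx' hk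
      · simp
    have h2 : ∑ φ : IrrCharacter G, (if φ ∈ U then (φ : G → ℂ) 1 * conj ((φ : G → ℂ) g) else 0) =
        (Nat.card (P : Subgroup G) : ℂ) * ∑ φ : IrrCharacter G, (if φ ∈ U then
          ((Nat.card (P : Subgroup G) : ℂ)⁻¹ * ∑ u : (P : Subgroup G), (φ : G → ℂ) (1 * u)) *
            conj ((φ : G → ℂ) g) else 0) := by
      rw [← h1, Finset.sum_comm, Finset.mul_sum]
      refine Finset.sum_congr rfl fun φ _ => ?_
      have hP : (Nat.card (P : Subgroup G) : ℂ) ≠ 0 := card_ne_zero_complex
      split_ifs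
      · rw [← Finset.sum_mul]
        simp only [one_mul]
        field_simp
      · simp
    rw [h2]
    have h3 : (Nat.card G : ℂ)⁻¹ * ((Nat.card (P : Subgroup G) : ℂ) *
        ∑ φ : IrrCharacter G, (if φ ∈ U then
          ((Nat.card (P : Subgroup G) : ℂ)⁻¹ * ∑ u : (P : Subgroup G), (φ : G → ℂ) (1 * u)) *
            conj ((φ : G → ℂ) g) else 0)) =
        ((P : Subgroup G).index : ℂ)⁻¹ * ∑ φ : IrrCharacter G, (if φ ∈ U then
          ((Nat.card (P : Subgroup G) : ℂ)⁻¹ * ∑ u : (P : Subgroup G), (φ : G → ℂ) (1 * u)) *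
            conj ((φ : G → ℂ) g) else 0) := by
      have hP : (Nat.card (P : Subgroup G) : ℂ) ≠ 0 := card_ne_zero_complex
      have h4 : (Nat.card G : ℂ) = (Nat.card (P : Subgroup G) : ℂ) * ((P : Subgroup G).index : ℂ) := by
        rw [← Nat.cast_mul, Subgroup.card_mul_index]
      have h5 : ((P : Subgroup G).index : ℂ) ≠ 0 := by
        have : (P : Subgroup G).index ≠ 0 := Subgroup.index_ne_zero_of_finite
        exact_mod_cast this
      rw [h4, mul_inv, ← mul_assoc]
      congr 1
      field_simp
    rw [h3]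
    apply memLocalRing_mul hM
    · apply memLocalRing_inv (memLocalRing_natCast hM _)
      rw [memLocalIdeal_natCast_iff hM]
      exact P.not_dvd_index
    · apply memLocalRing_sum hM
      intro φ _
      split_ifs
      · apply memLocalRing_mul hM
        · apply memLocalRing_of_isIntegral hM
          exact Blocks.AvgTrace.isIntegral_avg (isIrr_isCharacter φ.2) (P : Subgroup G) 1
            (fun u _ => Commute.one_left u)
        · apply memLocalRing_of_isIntegral hM
          exact Characters.GaloisBasic.isIntegral_apply (isCharacter_conj (isIrr_isCharacter φ.2)) g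
      · exact memLocalRing_zero hM

/-- **A set of irreducible characters separated from its complement over the `p`-regular elements
is a union of blocks.** -/
theorem blockOf_subset_of_separated {p : ℕ} [Fact p.Prime] {M : Ideal AlgInt}
    (hM : IsPModular p M) {U : Set (IrrCharacter G)} (h : Separated p U) {χ : IrrCharacter G}
    (hχ : χ ∈ U) : blockOf M (χ : G → ℂ) ⊆ U :=
  Cfsg.Agent.S0909.result p M hM U (memLocalRing_of_separated hM h) χ hχ

end Cfsg.Agent.H614
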