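import Cfsg.Agent.CharactersDeep.PrimeIndex
import Cfsg.Agent.Blocks.PrimeNormal

/-!
# Restriction of irreducible characters to a normal subgroup of index two
-/

set_option autoImplicit false
set_option linter.unusedSectionVars false

namespace Cfsg.Agent.H614

open Finset Cfsg Cfsg.Agent.Characters.Core
open scoped ComplexConjugate

universe u

variable {G : Type u} [Group G] [Fintype G]

/-- A character with inner product two on a subgroup of index two vanishes outside of the
subgroup. -/
theorem eq_zero_of_norm_two (N : Subgroup G) [Fintype N] (hN2 : N.index = 2) {χ : G → ℂ}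
    (hχ : IsIrrCharacter G χ)
    (h : classInner (fun n : N => χ n) (fun n : N => χ n) = 2) {g : G} (hg : g ∉ N) : χ g = 0 := by
  classical
  have h1 := classInner_irr_self hχ
  rw [classInner_def] at h h1
  have hG : (Nat.card G : ℂ) ≠ 0 := card_ne_zero_complex
  have hNc : (Nat.card N : ℂ) ≠ 0 := card_ne_zero_complex
  have hcard : (Nat.card G : ℂ) = Nat.card N * 2 := by
    rw [← Subgroup.card_mul_index N, hN2]; push_cast; rfl
  have h2 : ∑ n : N, χ n * conj (χ n) = Nat.card G := by
    rw [hcard]
    field_simp at h
    linear_combination h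
  have h3 : ∑ g : G, χ g * conj (χ g) = Nat.card G := by
    field_simp at h1
    linear_combination h1
  have h4 : ∑ g ∈ univ.filter (fun g => g ∈ N), χ g * conj (χ g) = ∑ n : N, χ n * conj (χ n) :=
    Finset.sum_subtype _ (by simp) (fun g => χ g * conj (χ g))
  have h5 := Finset.sum_filter_add_sum_filter_not univ (fun g => g ∈ N)
    (fun g => χ g * conj (χ g))
  rw [h4, h2, h3] at h5
  have h6 : ∑ g ∈ univ.filter (fun g => ¬ g ∈ N), χ g * conj (χ g) = 0 := by
    linear_combination h5
  have h7 : ∑ g ∈ univ.filter (fun g => ¬ g ∈ N), Complex.normSq (χ g) = 0 := by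
    have h8 := congrArg Complex.re h6
    rw [Complex.re_sum] at h8
    rw [← Complex.zero_re, ← h8]
    refine Finset.sum_congr rfl fun g _ => ?_
    rw [Complex.mul_conj, Complex.ofReal_re]
  have h8 := (Finset.sum_eq_zero_iff_of_nonneg (fun g _ => Complex.normSq_nonneg _)).mp h7 g
    (by simp [hg])
  exact Complex.normSq_eq_zero.mp h8

theorem restrict_two (N : Subgroup G) [N.Normal] [Fintype N] (hN2 : N.index = 2) {χ : G → ℂ}
    (hχ : IsIrrCharacter G χ) {θ : N → ℂ} (hθ : IsIrrCharacter N θ)
    (h : classInner (fun n : N => χ n) θ ≠ 0) :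
    (∀ n : N, χ n = θ n) ∨ (χ 1 = 2 * θ 1 ∧ ∀ g, g ∉ N → χ g = 0) := by
  classical
  have hres : IsCharacter N (fun n : N => χ n) :=
    Characters.Clifford.isCharacter_restrict N (isIrr_isCharacter hχ)
  rcases CharactersDeep.PrimeIndex.norm_restrict_prime_index N Nat.prime_two hN2 hχ with h1 | h1
  · left
    have h2 := isIrr_of_classInner_self hres h1
    by_contra hno
    apply h
    apply classInner_irr_ne h2 hθ
    intro h3
    exact hno fun n => congrFun h3 n
  · right
    have h1' : classInner (fun n : N => χ n) (fun n : N => χ n) = 2 := by rw [h1]; rfl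
    refine ⟨?_, fun g hg => eq_zero_of_norm_two N hN2 hχ h1' hg⟩
    obtain ⟨S, hS, hconj, heq⟩ := Blocks.PrimeNormal.restrict_eq N hχ hθ h
    obtain ⟨e, he⟩ := classInner_isNat hres (isIrr_isCharacter hθ)
    rw [he] at heq
    have h2 : classInner (fun n : N => χ n) (fun n : N => χ n) = (e : ℂ) * ((e : ℂ) * S.card) := by
      rw [heq, classInner_smul_left, classInner_smul_right, classInner_sum_left]
      congr 1
      rw [Complex.conj_natCast]
      congr 1
      have h3 : ∀ η ∈ S, classInner (η : N → ℂ) (∑ η' ∈ S, (η' : N → ℂ)) = 1 := by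
        intro η hη
        rw [classInner_sum_right, Finset.sum_eq_single η]
        · exact classInner_irr_self η.2
        · intro η' _ hne
          exact classInner_irr_ne η.2 η'.2 (fun h => hne (Subtype.ext h.symm))
        · intro h; exact absurd hη h
      rw [Finset.sum_congr rfl h3, Finset.sum_const, nsmul_eq_mul, mul_one]
    rw [h1'] at h2
    have h3 : e * (e * S.card) = 2 := by exact_mod_cast h2.symm
    have h4 : e = 1 ∧ S.card = 2 := by
      have he0 : e ≠ 0 := by rintro rfl; simp at h3
      have he2 : e < 2 := by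
        by_contra h5
        have h6 : 2 * (2 * 1) ≤ e * (e * S.card) :=
          Nat.mul_le_mul (by omega) (Nat.mul_le_mul (by omega) (by omega))
        omega
      have he1 : e = 1 := by omega
      subst he1
      exact ⟨rfl, by omega⟩
    have h5 := congrFun heq 1
    rw [h4.1, Nat.cast_one, one_smul, Finset.sum_apply] at h5
    have h6 : ∀ η ∈ S, (η : N → ℂ) 1 = θ 1 := by
      intro η hη
      obtain ⟨g, hg⟩ := hconj η hη
      rw [hg]
      show θ (MulAut.conjNormal g 1) = θ 1
      rw [map_one]
    rw [Finset.sum_congr rfl h6, Finset.sum_const, h4.2] at h5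
    have h7 : χ ((1 : N) : G) = 2 • θ 1 := h5
    rw [Subgroup.coe_one] at h7
    rw [h7, nsmul_eq_mul]
    rfl

end Cfsg.Agent.H614
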