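import Cfsg.Agent.H614.DefAlt
import Cfsg.Agent.H614.IndexTwo
import Cfsg.Agent.H648.HarrisKnorr
import Cfsg.Agent.H590.CoverLies
import Cfsg.Agent.S4710
import Cfsg.Agent.S0964
import Cfsg.Agent.Blocks.Over

/-!
# Blocks of the alternating groups

* `exists_cover` : the blocks covering a block of a normal subgroup;
* `height_eq` : heights computed with the order of a defect group;
* `alt_main` : the statement about the heights in the blocks of the alternating groups.
-/

set_option autoImplicit false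
set_option linter.unusedSectionVars false

namespace Cfsg.Agent.H614

open Finset Cfsg Cfsg.Agent.Characters.Core
open scoped ComplexConjugate

universe u

section General

variable {G : Type u} [Group G] [Fintype G] {p : ℕ} [hp : Fact p.Prime] {M : Ideal AlgInt}

theorem exists_constituent (N : Subgroup G) [Fintype N] {χ : G → ℂ} (hχ : IsIrrCharacter G χ) :
    ∃ ψ : IrrCharacter N, classInner (fun n : N => χ n) (ψ : N → ℂ) ≠ 0 := by
  classical
  by_contra hno
  push Not at hno
  have : Finite (IrrCharacter N) := finite_irr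
  let _ : Fintype (IrrCharacter N) := Fintype.ofFinite _
  have h1 : IsCharacter N (fun n : N => χ n) :=
    Characters.Clifford.isCharacter_restrict N (isIrr_isCharacter hχ)
  have h2 := classFunction_eq_sum (isCharacter_isClassFunction h1)
  have h3 := congrFun h2 1
  rw [Finset.sum_apply, Finset.sum_eq_zero (fun ψ _ => by rw [hno ψ, zero_smul]; rfl)] at h3
  exact isIrr_apply_one_ne_zero hχ h3

/-- **The blocks covering a block of a normal subgroup.** -/
theorem exists_cover (hM : IsPModular p M) (N : Subgroup G) [hN : N.Normal] [Fintype N]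
    {b : Set (IrrCharacter N)} (hb : IsPBlock M b) {D : Subgroup N} (hD : IsDefectGroup p M b D) :
    ∃ (B : Set (IrrCharacter G)) (P : Subgroup G), IsPBlock M B ∧ IsDefectGroup p M B P ∧
      D = (P ⊓ N).subgroupOf N ∧
      (∀ ψ ∈ b, ∃ χ ∈ B, classInner (fun n : N => (χ : G → ℂ) n) (ψ : N → ℂ) ≠ 0) ∧
      (∀ χ ∈ B, ∃ ψ ∈ b, classInner (fun n : N => (χ : G → ℂ) n) (ψ : N → ℂ) ≠ 0) := by
  classical
  have hMp : M.IsPrime := hM.2.1.isPrime
  obtain ⟨θ, hθ⟩ := Blocks.Basic.isPBlock_nonempty hb
  obtain ⟨χ, hχ⟩ := Blocks.Over.exists_over N θ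
  have hB : IsPBlock M (blockOf M (χ : G → ℂ)) := ⟨χ, rfl⟩
  have hχB : χ ∈ blockOf M (χ : G → ℂ) := Blocks.Basic.mem_blockOf_self χ
  have hDs : (D.map N.subtype).subgroupOf N = D :=
    Subgroup.comap_map_eq_self_of_injective N.subtype_injective D
  obtain ⟨P, hP, hPN, -, -⟩ := Cfsg.Agent.H648.HarrisKnorr.exists_defect_over N hM hB hb
    ⟨χ, hχB, θ, hθ, hχ⟩ (Q := D.map N.subtype) (Subgroup.map_subtype_le D) (by rw [hDs]; exact hD)
  refine ⟨_, P, hB, hP, by rw [hPN, hDs], ?_, ?_⟩
  · intro ψ hψ
    rw [Blocks.Basic.isPBlock_eq_blockOf hb hθ] at hψ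
    exact Cfsg.Agent.H590.CoverLies.blockOf_subset_under hM hB ⟨χ, hχB, hχ⟩ hψ
  · intro χ' hχ'
    obtain ⟨ψ', hψ'⟩ := exists_constituent N χ'.2
    obtain ⟨g, θ', hθ', h1⟩ := S0964.result p M hM N _ hB b hb χ hχB θ hθ hχ χ' hχ' ψ' hψ'
    refine ⟨θ', hθ', ?_⟩
    rw [← Characters.Clifford.classInner_restrict_conjNormal (isIrr_isClassFunction χ'.2) _ g]
    have h2 : (θ' : N → ℂ) ∘ (MulAut.conjNormal g : MulAut N) = (ψ' : N → ℂ) := by
      funext n
      rw [h1 n]
      rfl
    rw [h2]
    exact hψ'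

theorem factorization_charDegree_le {χ : G → ℂ} (hχ : IsIrrCharacter G χ) :
    (charDegree χ).factorization p ≤ (Nat.card G).factorization p := by
  have h1 := Blocks.Knorr.charDegree_dvd hχ
  exact (Nat.factorization_le_iff_dvd (ne_zero_of_dvd_ne_zero Nat.card_pos.ne' h1)
    Nat.card_pos.ne').mpr h1 p

/-- **Heights**, computed with the order of a defect group. -/
theorem height_eq (hM : IsPModular p M) {B : Set (IrrCharacter G)} (hB : IsPBlock M B)
    {D : Subgroup G} (hD : IsDefectGroup p M B D) {d : ℕ} (hd : Nat.card D = p ^ d)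
    {ψ : IrrCharacter G} (hψ : ψ ∈ B) {k : ℕ}
    (h : (charDegree (ψ : G → ℂ)).factorization p + d = (Nat.card G).factorization p + k) :
    blockHeight p B (ψ : G → ℂ) = k := by
  have h1 := S0908.result p M hM B hB D hD
  rw [hd] at h1
  have h2 : d = blockDefect p B := Nat.pow_right_injective hp.out.two_le h1
  have h3 : ((fun χ : IrrCharacter G =>
      (charDegree (χ : G → ℂ)).factorization p) '' B).Nonempty := ⟨_, ψ, hψ, rfl⟩
  obtain ⟨φ, hφ, hφ'⟩ := Nat.sInf_mem h3
  have h4 : (charDegree (φ : G → ℂ)).factorization p ≤ (Nat.card G).factorization p :=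
    factorization_charDegree_le φ.2
  have h5 : sInf ((fun χ : IrrCharacter G => (charDegree (χ : G → ℂ)).factorization p) '' B) ≤
      (charDegree (ψ : G → ℂ)).factorization p := Nat.sInf_le ⟨ψ, hψ, rfl⟩
  unfold blockDefect at h2
  unfold blockHeight
  have h6 : sInf ((fun χ : IrrCharacter G => (charDegree (χ : G → ℂ)).factorization p) '' B) =
    (charDegree (φ : G → ℂ)).factorization p := hφ'.symm
  rw [h6] at h2 h5 ⊢
  omega

/-- Small defect: heights zero. -/
theorem height_zero_of_card (hM : IsPModular p M) {B : Set (IrrCharacter G)} (hB : IsPBlock M B)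
    {D : Subgroup G} (hD : IsDefectGroup p M B D) {d : ℕ} (hd : Nat.card D = p ^ d) (hd2 : d ≤ 2)
    {ψ : IrrCharacter G} (hψ : ψ ∈ B) : blockHeight p B (ψ : G → ℂ) = 0 := by
  have h1 := S0908.result p M hM B hB D hD
  rw [hd] at h1
  have h2 : d = blockDefect p B := Nat.pow_right_injective hp.out.two_le h1
  obtain ⟨-, h3⟩ := S4710.result p M hM B hB d h2.symm
  obtain ⟨h4, h5⟩ := h3 ψ hψ
  rcases Nat.lt_or_ge d 2 with h | h
  · exact h4 (by omega)
  · have := h5 h
    omega

theorem isMulCommutative_of_card {D : Subgroup G} {d : ℕ} (hd : Nat.card D = p ^ d)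
    (hd2 : d ≤ 2) : IsMulCommutative D := by
  have h : d = 0 ∨ d = 1 ∨ d = 2 := by omega
  rcases h with rfl | rfl | rfl
  · rw [pow_zero, Nat.card_eq_one_iff_unique] at hd
    have := hd.1
    exact ⟨⟨fun a b => Subsingleton.elim _ _⟩⟩
  · rw [pow_one] at hd
    have : IsCyclic D := isCyclic_of_prime_card hd
    exact ⟨⟨fun a b => (IsCyclic.commGroup (α := D)).mul_comm a b⟩⟩
  · exact ⟨⟨fun a b => (IsPGroup.commGroupOfCardEqPrimeSq hd).mul_comm a b⟩⟩

end General

section Alt

variable {α : Type u} [Fintype α] [DecidableEq α] {p : ℕ} [hp : Fact p.Prime] {M : Ideal AlgInt}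

theorem le_alternating (hp2 : p ≠ 2) {P : Subgroup (Equiv.Perm α)} (hP : IsPGroup p P) :
    P ≤ alternatingGroup α := by
  intro g hg
  rw [Equiv.Perm.mem_alternatingGroup]
  obtain ⟨k, hk⟩ := hP ⟨g, hg⟩
  have h1 : g ^ (p ^ k) = 1 := Subtype.ext_iff.mp hk
  have h2 : (Equiv.Perm.sign g) ^ (p ^ k) = 1 := by rw [← map_pow, h1, map_one]
  rcases Int.units_eq_one_or (Equiv.Perm.sign g) with h | h
  · exact h
  · have hodd : Odd (p ^ k) := (hp.out.odd_of_ne_two hp2).pow
    rw [h, hodd.neg_one_pow] at h2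
    exact absurd h2 (by decide)

theorem charDegree_pos {G : Type*} [Group G] {χ : G → ℂ} (hχ : IsIrrCharacter G χ) :
    0 < charDegree χ ∧ χ 1 = charDegree χ := by
  obtain ⟨d, hd, hd'⟩ := isIrr_apply_one hχ
  rw [Blocks.Knorr.charDegree_of_natCast hd']
  exact ⟨hd, hd'⟩

/-- Degrees of the constituents of the restriction to a subgroup of index two. -/
theorem degree_two {G : Type u} [Group G] [Fintype G] (N : Subgroup G) [N.Normal] [Fintype N]
    (hN2 : N.index = 2) {χ : G → ℂ} (hχ : IsIrrCharacter G χ) {θ : N → ℂ}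
    (hθ : IsIrrCharacter N θ) (h : classInner (fun n : N => χ n) θ ≠ 0) :
    charDegree χ = charDegree θ ∨ (charDegree χ = 2 * charDegree θ ∧ ∀ g, g ∉ N → χ g = 0) := by
  obtain ⟨-, h1⟩ := charDegree_pos hχ
  obtain ⟨-, h2⟩ := charDegree_pos hθ
  rcases restrict_two N hN2 hχ hθ h with h3 | ⟨h3, h4⟩
  · left
    have h5 := h3 1
    rw [Subgroup.coe_one, h1, h2] at h5
    exact_mod_cast h5
  · right
    refine ⟨?_, h4⟩
    rw [h1, h2] at h3
    exact_mod_cast h3

theorem isMulCommutative_congr {G H : Type*} [Group G] [Group H] {A : Subgroup G} {B : Subgroup H}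
    (e : A ≃* B) (h : ∀ a ∈ B, ∀ b ∈ B, a * b = b * a) : IsMulCommutative A := by
  refine ⟨⟨fun a b => e.injective ?_⟩⟩
  rw [map_mul, map_mul]
  exact Subtype.ext (h _ (e a).2 _ (e b).2)

/-- **Heights in the blocks of the alternating groups.** -/
theorem alt_main [Nontrivial α] (hM : IsPModular p M) {B : Set (IrrCharacter (alternatingGroup α))}
    (hB : IsPBlock M B) {D : Subgroup (alternatingGroup α)} (hD : IsDefectGroup p M B D) :
    ((∃ χ : IrrCharacter (alternatingGroup α), χ ∈ B ∧
        blockHeight p B (χ : alternatingGroup α → ℂ) = 1) ∧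
      (∃ φ : IrrCharacter D, charDegree (φ : D → ℂ) = p)) ∨
    ((∀ χ : IrrCharacter (alternatingGroup α), χ ∈ B →
        blockHeight p B (χ : alternatingGroup α → ℂ) = 0) ∧ IsMulCommutative D) := by
  classical
  have hMp : M.IsPrime := hM.2.1.isPrime
  have hN2 : (alternatingGroup α).index = 2 := alternatingGroup.index_eq_two
  obtain ⟨BB, P, hBB, hP, hDP, hup, hdown⟩ := exists_cover hM (alternatingGroup α) hB hD
  obtain ⟨χ, hχ⟩ := Blocks.Basic.isPBlock_nonempty hBB
  obtain ⟨β, hβ, hs, hχβ⟩ := irr_eq (α := α) (m := Fintype.card α + 2 * p) (by omega) χ.2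
  obtain ⟨w, hw⟩ : ∃ w, ∑ j, β j / p = w + npairs p β :=
    ⟨_, (Nat.sub_add_cancel (npairs_le hp.out.pos hβ.injective)).symm⟩
  obtain ⟨κ, hκ, hκc, hκw, hpw, hκs, -⟩ := exists_core hp.out.pos hβ.injective hw hs
  obtain ⟨z, hz, hz1, hz2, hPc⟩ := defect_structure hM (by omega) hBB hβ hs hχ hχβ hw hP
  have hzp := pow_eq_one_of_cycleType hz
  have hPp : IsPGroup p P := Blocks.Basic.isPGroup_of_isDefectGroup hP
  have hcardN : Nat.card (Equiv.Perm α) = 2 * Nat.card (alternatingGroup α) := by
    rw [← Subgroup.card_mul_index (alternatingGroup α), hN2, mul_comm]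
  let e : D ≃* (P ⊓ alternatingGroup α : Subgroup (Equiv.Perm α)) :=
    (MulEquiv.subgroupCongr hDP).trans (Subgroup.subgroupOfEquivOfLe inf_le_right)
  have hcardD : Nat.card D = Nat.card (P ⊓ alternatingGroup α : Subgroup (Equiv.Perm α)) :=
    Nat.card_congr e.toEquiv
  -- the members of the block
  have hmem : ∀ γ : Fin (Fintype.card α + 2 * p) → ℕ, ∀ hγ : StrictMono γ,
      ∀ hsγ : ∑ i, γ i = Fintype.card α + ∑ i : Fin (Fintype.card α + 2 * p), (i : ℕ),
      SameCol p κ γ → (⟨ch α γ, isIrr_ch hγ hsγ⟩ : IrrCharacter (Equiv.Perm α)) ∈ BB := by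
    intro γ hγ hsγ hc
    refine Blocks.Basic.isPBlock_mem_of_sameBlock hBB hχ ?_
    rw [hχβ]
    exact sameBlock_of_sameCol hM hβ hγ hs hsγ (hκc.trans hc)
  by_cases hp2 : p = 2
  · subst hp2
    have hcardN' : (Nat.card (Equiv.Perm α)).factorization 2 =
        (Nat.card (alternatingGroup α)).factorization 2 + 1 := by
      rw [hcardN, Nat.factorization_mul two_ne_zero Nat.card_pos.ne', Finsupp.add_apply,
        Nat.Prime.factorization_self Nat.prime_two, add_comm]
    by_cases hw3 : 3 ≤ w
    · left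
      obtain ⟨c, hc, hcs⟩ := exists_odd_cyc hz (by omega)
      have h1 := card_inf_alternating (hz1 hc) hcs
      have hDc : Nat.card D = 2 ^ (w + padicValNat 2 w.factorial - 1) := by
        rw [hcardD]
        obtain ⟨v, hv⟩ : ∃ v, w + padicValNat 2 w.factorial = v + 1 :=
          ⟨w + padicValNat 2 w.factorial - 1, by omega⟩
        rw [hPc, hv, pow_succ] at h1
        rw [hv, Nat.add_sub_cancel]
        omega
      refine ⟨?_, degree_of_surjective e.toMonoidHom e.surjective (alt_degree_two hz hz1 hz2 hPc hw3)⟩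
      obtain ⟨γ, hγ, hγc, hsγ, hval, t, ht2, htn, htodd, htF⟩ :=
        exists_height_one_two hκ hκw hpw hκs (by omega) hw3
      obtain ⟨ψ, hψ, hψi⟩ := hdown _ (hmem γ hγ hsγ hγc)
      refine ⟨ψ, hψ, height_eq hM hB hD hDc hψ ?_⟩
      obtain ⟨g, hg⟩ := (Equiv.Perm.exists_with_cycleType_iff α (m := t)).mpr ⟨htn, ht2⟩
      have hgs : g ∉ alternatingGroup α := by
        rw [Equiv.Perm.mem_alternatingGroup, Equiv.Perm.sign_of_cycleType, hg, htodd.neg_one_pow]
        decide
      have hgne : ch α γ g ≠ 0 := by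
        rw [ch_apply, ty_eq, hg]
        exact_mod_cast htF
      have hdeg : charDegree (ch α γ) = charDegree (ψ : alternatingGroup α → ℂ) := by
        rcases degree_two (alternatingGroup α) hN2 (isIrr_ch hγ hsγ) ψ.2 hψi with h2 | ⟨-, h2⟩
        · exact h2
        · exact absurd (h2 g hgs) hgne
      rw [← hdeg, charDegree_ch hγ hsγ, Nat.factorization_def _ Nat.prime_two]
      rw [card_perm_fact] at hcardN'
      omega
    · right
      have hd : ∃ d, d ≤ 2 ∧ Nat.card D = 2 ^ d := by
        rcases Nat.eq_zero_or_pos w with rfl | hw0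
        · refine ⟨0, by omega, ?_⟩
          rw [hcardD]
          have h1 : Nat.card P = 1 := by rw [hPc]; simp
          have h2 := Subgroup.card_dvd_of_le
            (inf_le_left : (P ⊓ alternatingGroup α : Subgroup (Equiv.Perm α)) ≤ P)
          rw [h1, Nat.dvd_one] at h2
          rw [h2, pow_zero]
        · obtain ⟨c, hc, hcs⟩ := exists_odd_cyc hz hw0
          have h1 := card_inf_alternating (hz1 hc) hcs
          have h2 : padicValNat 2 w.factorial ≤ 1 := by
            have h3 : w = 1 ∨ w = 2 := by omega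
            rcases h3 with rfl | rfl
            · simp
            · rw [Nat.factorial_two, padicValNat_self]
          obtain ⟨v, hv⟩ : ∃ v, w + padicValNat 2 w.factorial = v + 1 :=
            ⟨w + padicValNat 2 w.factorial - 1, by omega⟩
          refine ⟨v, by omega, ?_⟩
          rw [hPc, hv, pow_succ] at h1
          rw [hcardD]
          omega
      obtain ⟨d, hd2, hd⟩ := hd
      exact ⟨fun ψ hψ => height_zero_of_card hM hB hD hd hd2 hψ, isMulCommutative_of_card hd hd2⟩
  · have hPN : P ≤ alternatingGroup α := le_alternating hp2 hPp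
    have hinf : P ⊓ alternatingGroup α = P := inf_eq_left.mpr hPN
    have hDc : Nat.card D = p ^ (w + padicValNat p w.factorial) := by rw [hcardD, hinf, hPc]
    have h2p : (2 : ℕ).factorization p = 0 := by
      rw [Nat.factorization_eq_zero_iff]
      right; left
      intro h
      exact hp2 ((Nat.prime_dvd_prime_iff_eq hp.out Nat.prime_two).mp h)
    have hcardN' : (Nat.card (Equiv.Perm α)).factorization p =
        (Nat.card (alternatingGroup α)).factorization p := by
      rw [hcardN, Nat.factorization_mul two_ne_zero Nat.card_pos.ne', Finsupp.add_apply, h2p, zero_add]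
    have hdeg : ∀ {χ' : Equiv.Perm α → ℂ} {ψ : alternatingGroup α → ℂ},
        IsIrrCharacter _ χ' → IsIrrCharacter _ ψ →
        classInner (fun n : alternatingGroup α => χ' n) ψ ≠ 0 →
        (charDegree ψ).factorization p = (charDegree χ').factorization p := by
      intro χ' ψ hχ' hψ h
      rcases degree_two (alternatingGroup α) hN2 hχ' hψ h with h2 | ⟨h2, -⟩
      · rw [h2]
      · rw [h2, Nat.factorization_mul two_ne_zero (charDegree_pos hψ).1.ne', Finsupp.add_apply, h2p,
          zero_add]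
    rw [card_perm_fact] at hcardN'
    by_cases hwp : p ≤ w
    · left
      constructor
      · obtain ⟨γ, hγ, hγc, hsγ, hval⟩ := exists_height_one_odd
          (by have := hp.out.two_le; omega) hκ hκw hpw hκs (by omega) hwp
        obtain ⟨ψ, hψ, hψi⟩ := hdown _ (hmem γ hγ hsγ hγc)
        refine ⟨ψ, hψ, height_eq hM hB hD hDc hψ ?_⟩
        rw [hdeg (isIrr_ch hγ hsγ) ψ.2 hψi, charDegree_ch hγ hsγ, Nat.factorization_def _ hp.out]
        omega
      · have h1 := exists_degree_p_of_cyc hzp P hPp hz2 hz1 (not_le_cyc hz hPc hwp)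
        rw [← hinf] at h1
        exact degree_of_surjective e.toMonoidHom e.surjective h1
    · right
      have hv0 : padicValNat p w.factorial = 0 := by
        apply padicValNat.eq_zero_of_not_dvd
        rw [hp.out.dvd_factorial]
        exact hwp
      constructor
      · intro ψ hψ
        refine height_eq hM hB hD hDc hψ ?_
        obtain ⟨χ', hχ', hi⟩ := hup ψ hψ
        have h2 : SameBlock M (ch α β) (χ' : Equiv.Perm α → ℂ) := by
          rw [← hχβ]; exact Blocks.Basic.isPBlock_sameBlock hBB hχ hχ'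
        obtain ⟨γ, hγ, hsγ, hψγ, hc⟩ := mem_blockOf hM (by omega) hβ hs h2
        have h3 := weight_of_sameCol hp.out.pos hc (hs.trans hsγ.symm) hw
        have h4 := val_eq_of_lt hγ.injective hsγ h3 (by omega)
        rw [hdeg χ'.2 ψ.2 hi, hψγ, charDegree_ch hγ hsγ, Nat.factorization_def _ hp.out, hv0]
        omega
      · have h1 : P = cyc z := by
          symm
          apply Subgroup.eq_of_le_of_card_ge hz1
          rw [hPc, card_cyc hz, hv0, add_zero]
        refine isMulCommutative_congr e fun a ha b hb => ?_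
        rw [hinf, h1] at ha hb
        exact cyc_comm ha hb

end Alt

end Cfsg.Agent.H614
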