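import Cfsg.Agent.H614.Complete

/-!
# Removing a cycle of a permutation; counting invariant functions

* `ty_step` : the cycle lengths of `g` are the length of the cycle of `x` and the cycle lengths of
  the restriction of `g` to the complement of the cycle;
* `cnt g a` : the number of `g`-invariant functions with fibre sizes `a`;
* `FM_ty` : `FM (ty g) β = ∑_σ sgn σ * cnt g (β - σ)`.
-/

set_option autoImplicit false
set_option linter.unusedSectionVars false

namespace Cfsg.Agent.H614

open Finset Equiv Equiv.Perm

universe u

variable {α : Type u} [Fintype α] [DecidableEq α] {m : ℕ}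

theorem ty_eq (g : Perm α) :
    ty g = g.cycleType + Multiset.replicate (Fintype.card α - g.cycleType.sum) 1 := by
  rw [ty, parts_partition, sum_cycleType]

theorem not_sameCycle_iff (g : Perm α) (x : α) (y : α) :
    ¬ g.SameCycle x (g y) ↔ ¬ g.SameCycle x y := by
  rw [sameCycle_apply_right]

/-- The restriction of `g` to the complement of the cycle of `x`. -/
def rest (g : Perm α) (x : α) : Perm {y // ¬ g.SameCycle x y} :=
  g.subtypePerm (not_sameCycle_iff g x)

theorem rest_apply (g : Perm α) (x : α) (y : {y // ¬ g.SameCycle x y}) :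
    (rest g x y : α) = g y := rfl

/-- The size of the cycle of `x`. -/
def csz (g : Perm α) (x : α) : ℕ := #{y | g.SameCycle x y}

theorem csz_pos (g : Perm α) (x : α) : 0 < csz g x :=
  Finset.card_pos.mpr ⟨x, by simp only [Finset.mem_filter, Finset.mem_univ, true_and]; exact SameCycle.refl _ _⟩

theorem card_rest (g : Perm α) (x : α) :
    Fintype.card {y // ¬ g.SameCycle x y} + csz g x = Fintype.card α := by
  have h1 : csz g x = Fintype.card {y // g.SameCycle x y} := by
    rw [csz, ← Fintype.card_subtype]
  rw [h1, Fintype.card_subtype_compl]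
  have := Fintype.card_subtype_le (fun y => g.SameCycle x y)
  omega

theorem cycleType_step (g : Perm α) (x : α) :
    g.cycleType = (g.cycleOf x).cycleType + (rest g x).cycleType := by
  have hmul : g.cycleOf x * ofSubtype (rest g x) = g := by
    ext y
    rw [Perm.mul_apply]
    by_cases h : g.SameCycle x y
    · rw [ofSubtype_apply_of_not_mem (a := y) (rest g x) (not_not.mpr h), h.cycleOf_apply]
    · rw [ofSubtype_apply_of_mem (a := y) (rest g x) h, cycleOf_apply_of_not_sameCycle]
      · rfl
      · rw [rest_apply]; exact (not_sameCycle_iff g x y).mpr h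
  have hdisj : Perm.Disjoint (g.cycleOf x) (ofSubtype (rest g x)) := by
    intro y
    by_cases h : g.SameCycle x y
    · right; exact ofSubtype_apply_of_not_mem (a := y) (rest g x) (not_not.mpr h)
    · left; exact cycleOf_apply_of_not_sameCycle h
  conv_lhs => rw [← hmul]
  rw [hdisj.cycleType_mul, cycleType_ofSubtype]

/-- **Removing a cycle.** -/
theorem ty_step (g : Perm α) (x : α) : ty g = csz g x ::ₘ ty (rest g x) := by
  rw [ty_eq, ty_eq, cycleType_step g x]
  have hc := card_rest g x
  have hle : (rest g x).cycleType.sum ≤ Fintype.card {y // ¬ g.SameCycle x y} := by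
    rw [sum_cycleType]; exact Finset.card_le_univ _
  by_cases hx : g x = x
  · have h1 : g.cycleOf x = 1 := by rwa [cycleOf_eq_one_iff]
    have h2 : csz g x = 1 := by
      unfold csz
      rw [Finset.card_eq_one]
      refine ⟨x, ?_⟩
      ext y
      simp only [Finset.mem_filter, Finset.mem_univ, true_and, Finset.mem_singleton]
      constructor
      · intro h
        exact ((h.eq_of_left) hx).symm
      · rintro rfl; exact SameCycle.refl _ _
    rw [h1, cycleType_one, zero_add, h2]
    rw [h2] at hc
    have h3 : Fintype.card α - (rest g x).cycleType.sum =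
        Fintype.card {y // ¬ g.SameCycle x y} - (rest g x).cycleType.sum + 1 := by omega
    rw [h3, Multiset.replicate_succ, Multiset.add_cons]
  · have h1 : (g.cycleOf x).cycleType = {csz g x} := by
      rw [(isCycle_cycleOf g hx).cycleType]
      congr 1
      unfold csz
      congr 1
      ext y
      rw [mem_support_cycleOf_iff' hx]
      simp
    rw [h1]
    have h3 : Fintype.card α - (({csz g x} : Multiset ℕ) + (rest g x).cycleType).sum =
        Fintype.card {y // ¬ g.SameCycle x y} - (rest g x).cycleType.sum := by
      rw [Multiset.sum_add, Multiset.sum_singleton]; omega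
    rw [h3, add_assoc, Multiset.singleton_add]

/-! ### Counting invariant functions -/

/-- The invariant functions with given fibre sizes. -/
def invSet (g : Perm α) (a : Fin m → ℕ) : Finset (α → Fin m) :=
  {f | f ∘ g = f ∧ ∀ j, #{x | f x = j} = a j}

theorem mem_invSet {g : Perm α} {a : Fin m → ℕ} {f : α → Fin m} :
    f ∈ invSet g a ↔ f ∘ g = f ∧ ∀ j, #{x | f x = j} = a j := by
  simp [invSet]

/-- The number of invariant functions with given fibre sizes. -/
def cnt (g : Perm α) (a : Fin m → ℕ) : ℕ := #(invSet g a)

theorem inv_const {g : Perm α} {f : α → Fin m} (hf : f ∘ g = f) {x y : α} (h : g.SameCycle x y) :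
    f y = f x := by
  obtain ⟨k, rfl⟩ := h
  have h1 : ∀ z, f (g z) = f z := fun z => congrFun hf z
  have h2 : ∀ z, f (g⁻¹ z) = f z := by
    intro z
    have h4 : g (g⁻¹ z) = z := g.apply_symm_apply z
    have := h1 (g⁻¹ z)
    rw [h4] at this
    exact this.symm
  induction k using Int.induction_on with
  | zero => simp
  | succ k ih => rw [add_comm, zpow_add, zpow_one, Perm.mul_apply, h1, ih]
  | pred k ih =>
    rw [sub_eq_add_neg, add_comm, zpow_add, Perm.mul_apply, zpow_neg_one, h2, ih]

/-- Extension of a function by a constant on the cycle of `x`. -/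
def extc (g : Perm α) (x : α) (j : Fin m) (f : {y // ¬ g.SameCycle x y} → Fin m) : α → Fin m :=
  fun y => if h : ¬ g.SameCycle x y then f ⟨y, h⟩ else j

theorem card_fibre (g : Perm α) (x : α) {f : α → Fin m} (hf : f ∘ g = f) (k : Fin m) :
    #{y | f y = k} = (if f x = k then csz g x else 0) +
      #{y : {y // ¬ g.SameCycle x y} | f y = k} := by
  have h1 : #{y | f y = k} = #{y | f y = k ∧ g.SameCycle x y} + #{y | f y = k ∧ ¬ g.SameCycle x y} := by
    rw [← Finset.card_union_of_disjoint]
    · congr 1
      ext y
      simp only [Finset.mem_filter, Finset.mem_univ, true_and, Finset.mem_union]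
      tauto
    · rw [Finset.disjoint_left]
      intro y
      simp only [Finset.mem_filter, Finset.mem_univ, true_and]
      tauto
  rw [h1]
  congr 1
  · split_ifs with h
    · unfold csz
      congr 1
      ext y
      simp only [Finset.mem_filter, Finset.mem_univ, true_and]
      constructor
      · exact fun h => h.2
      · exact fun h' => ⟨by rw [inv_const hf h', h], h'⟩
    · rw [Finset.card_eq_zero, Finset.filter_eq_empty_iff]
      rintro y - ⟨h2, h3⟩
      apply h
      rw [← h2, inv_const hf h3]
  · rw [← Finset.card_map (Function.Embedding.subtype _)]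
    congr 1
    ext y
    simp only [Finset.mem_filter, Finset.mem_univ, true_and, Finset.mem_map,
      Function.Embedding.coe_subtype, Subtype.exists, exists_and_left, exists_prop]
    constructor
    · rintro ⟨h2, h3⟩; exact ⟨y, h2, h3, rfl⟩
    · rintro ⟨z, h2, h3, rfl⟩; exact ⟨h2, h3⟩

/-- The one-step recursion for the number of invariant functions. -/
theorem cnt_step (g : Perm α) (x : α) (a : Fin m → ℕ) :
    cnt g a = ∑ j, if csz g x ≤ a j then cnt (rest g x) (dn a j (csz g x)) else 0 := by
  unfold cnt
  rw [Finset.card_eq_sum_card_fiberwise (f := fun f : α → Fin m => f x) (t := univ)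
    (fun _ _ => by simp)]
  refine Finset.sum_congr rfl fun j _ => ?_
  split_ifs with hj
  · refine Finset.card_bij' (i := fun f _ => fun y : {y // ¬ g.SameCycle x y} => f y)
      (j := fun f _ => extc g x j f) ?_ ?_ ?_ ?_
    · intro f hf
      rw [Finset.mem_filter, mem_invSet] at hf
      obtain ⟨⟨hf1, hf2⟩, hf3⟩ := hf
      rw [mem_invSet]
      refine ⟨?_, ?_⟩
      · funext y
        exact congrFun hf1 y
      · intro k
        have h1 := card_fibre g x hf1 k
        rw [hf2 k, hf3] at h1
        by_cases hk : j = k
        · subst hk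
          rw [dn_self]
          rw [if_pos rfl] at h1
          omega
        · rw [dn_ne _ _ (Ne.symm hk)]
          rw [if_neg hk] at h1
          omega
    · intro f hf
      rw [mem_invSet] at hf
      obtain ⟨hf1, hf2⟩ := hf
      have h1 : extc g x j f ∘ g = extc g x j f := by
        funext y
        simp only [Function.comp_apply, extc]
        by_cases h : g.SameCycle x y
        · rw [dif_neg (not_not.mpr h), dif_neg (not_not.mpr (sameCycle_apply_right.mpr h))]
        · rw [dif_pos h, dif_pos ((not_sameCycle_iff g x y).mpr h)]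
          exact congrFun hf1 ⟨y, h⟩
      have h2 : extc g x j f x = j := dif_neg (not_not.mpr (SameCycle.refl _ _))
      rw [Finset.mem_filter, mem_invSet]
      refine ⟨⟨h1, ?_⟩, h2⟩
      intro k
      rw [card_fibre g x h1 k, h2]
      have h3 : ∀ y : {y // ¬ g.SameCycle x y}, extc g x j f y = f y := fun y => dif_pos y.2
      simp only [h3]
      rw [hf2 k]
      by_cases hk : j = k
      · subst hk
        rw [dn_self, if_pos rfl]
        omega
      · rw [dn_ne _ _ (Ne.symm hk), if_neg hk]
        omega
    · intro f hf
      rw [Finset.mem_filter, mem_invSet] at hf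
      obtain ⟨⟨hf1, hf2⟩, hf3⟩ := hf
      funext y
      simp only [extc]
      by_cases h : g.SameCycle x y
      · rw [dif_neg (not_not.mpr h), inv_const hf1 h, hf3]
      · rw [dif_pos h]
    · intro f _
      funext y
      exact dif_pos y.2
  · rw [Finset.card_eq_zero, Finset.filter_eq_empty_iff]
    intro f hf hfx
    rw [mem_invSet] at hf
    apply hj
    have h1 := card_fibre g x hf.1 j
    rw [hf.2 j, if_pos hfx] at h1
    omega

/-- The alternating sum of numbers of invariant functions. -/
def FV (g : Perm α) (β : Fin m → ℕ) : ℤ :=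
  ∑ σ : Perm (Fin m), if ∀ i, ((σ i : Fin m) : ℕ) ≤ β i then sg σ * cnt g (fun i => β i - σ i) else 0

theorem FV_step (g : Perm α) (x : α) (β : Fin m → ℕ) :
    FV g β = ∑ j, if csz g x ≤ β j then FV (rest g x) (dn β j (csz g x)) else 0 := by
  unfold FV
  have h1 : ∀ σ : Perm (Fin m), (if ∀ i, ((σ i : Fin m) : ℕ) ≤ β i then
      sg σ * cnt g (fun i => β i - σ i) else 0) =
      ∑ j, if (∀ i, ((σ i : Fin m) : ℕ) ≤ β i) ∧ csz g x ≤ β j - σ j then
        sg σ * cnt (rest g x) (dn (fun i => β i - σ i) j (csz g x)) else 0 := by
    intro σ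
    by_cases h : ∀ i, ((σ i : Fin m) : ℕ) ≤ β i
    · rw [if_pos h, cnt_step g x]
      push_cast
      rw [Finset.mul_sum]
      refine Finset.sum_congr rfl fun j _ => ?_
      by_cases h2 : csz g x ≤ β j - σ j
      · rw [if_pos h2, if_pos ⟨h, h2⟩]
      · rw [if_neg h2, if_neg (fun h' => h2 h'.2), mul_zero]
    · rw [if_neg h]
      symm
      exact Finset.sum_eq_zero fun j _ => if_neg fun h' => h h'.1
  have h2 : ∀ j, (if csz g x ≤ β j then ∑ σ : Perm (Fin m),
      (if ∀ i, ((σ i : Fin m) : ℕ) ≤ dn β j (csz g x) i then
        sg σ * cnt (rest g x) (fun i => dn β j (csz g x) i - σ i) else 0) else 0) =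
      ∑ σ : Perm (Fin m), if (∀ i, ((σ i : Fin m) : ℕ) ≤ β i) ∧ csz g x ≤ β j - σ j then
        sg σ * cnt (rest g x) (dn (fun i => β i - σ i) j (csz g x)) else 0 := by
    intro j
    have h3 : ∀ σ : Perm (Fin m), (csz g x ≤ β j ∧ ∀ i, ((σ i : Fin m) : ℕ) ≤ dn β j (csz g x) i) ↔
        ((∀ i, ((σ i : Fin m) : ℕ) ≤ β i) ∧ csz g x ≤ β j - σ j) := by
      intro σ
      constructor
      · rintro ⟨h4, h5⟩
        have h6 := h5 j
        rw [dn_self] at h6
        refine ⟨fun i => ?_, by omega⟩
        by_cases hi : i = j
        · subst hi; omega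
        · have := h5 i
          rwa [dn_ne _ _ hi] at this
      · rintro ⟨h4, h5⟩
        have h6 := h4 j
        have h7 := csz_pos g x
        refine ⟨by omega, fun i => ?_⟩
        by_cases hi : i = j
        · subst hi; rw [dn_self]; omega
        · rw [dn_ne _ _ hi]; exact h4 i
    have h8 : ∀ σ : Perm (Fin m), (fun i => dn β j (csz g x) i - ((σ i : Fin m) : ℕ)) =
        dn (fun i => β i - σ i) j (csz g x) := by
      intro σ
      funext i
      by_cases hi : i = j
      · subst hi; rw [dn_self, dn_self]; omega
      · rw [dn_ne _ _ hi, dn_ne _ _ hi]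
    by_cases h4 : csz g x ≤ β j
    · rw [if_pos h4]
      refine Finset.sum_congr rfl fun σ _ => ?_
      have h5 := h3 σ
      rw [h8]
      by_cases h6 : (∀ i, ((σ i : Fin m) : ℕ) ≤ β i) ∧ csz g x ≤ β j - σ j
      · rw [if_pos h6, if_pos (h5.mpr h6).2]
      · rw [if_neg h6, if_neg (fun h7 => h6 (h5.mp ⟨h4, h7⟩))]
    · rw [if_neg h4]
      symm
      exact Finset.sum_eq_zero fun σ _ => if_neg fun h' => h4 ((h3 σ).mpr h').1
  rw [Finset.sum_congr rfl (fun σ _ => h1 σ), Finset.sum_comm]
  exact Finset.sum_congr rfl fun j _ => (h2 j).symm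

/-- **Frobenius' functions at the cycle type of a permutation as an alternating sum of permutation
characters.** -/
theorem FM_ty (g : Perm α) (β : Fin m → ℕ) : FM (ty g) β = FV g β := by
  obtain ⟨N, hN⟩ : ∃ N, N = Fintype.card α := ⟨_, rfl⟩
  induction N using Nat.strong_induction_on generalizing α β with
  | _ N ih =>
    rcases isEmpty_or_nonempty α with hα | ⟨⟨x⟩⟩
    · have h1 : ty g = 0 := by
        have h2 := ty_sum g
        rw [Fintype.card_eq_zero] at h2
        by_contra hne
        obtain ⟨a, ha⟩ := Multiset.exists_mem_of_ne_zero hne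
        have h3 := ty_pos g a ha
        have h4 := Multiset.le_sum_of_mem ha
        omega
      rw [h1, FM_zero]
      unfold vac FV
      refine Finset.sum_congr rfl fun σ _ => ?_
      by_cases h : β = fun i => ((σ i : Fin m) : ℕ)
      · have h3 : cnt g (fun i => β i - σ i) = 1 := by
          unfold cnt
          rw [Finset.card_eq_one]
          refine ⟨fun a => isEmptyElim a, ?_⟩
          ext f
          rw [mem_invSet, Finset.mem_singleton]
          constructor
          · intro _; exact Subsingleton.elim _ _
          · intro _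
            refine ⟨Subsingleton.elim _ _, fun j => ?_⟩
            rw [h]; simp
        rw [if_pos h, if_pos (fun i => by rw [h]), h3]; simp
      · rw [if_neg h]
        split_ifs with h2
        · have h3 : cnt g (fun i => β i - σ i) = 0 := by
            unfold cnt
            rw [Finset.card_eq_zero, Finset.eq_empty_iff_forall_notMem]
            intro f hf
            rw [mem_invSet] at hf
            apply h
            funext i
            have h4 := hf.2 i
            have h5 := h2 i
            simp at h4
            omega
          rw [h3]; simp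
        · rfl
    · rw [ty_step g x, FM_cons, FV_step g x]
      refine Finset.sum_congr rfl fun j _ => ?_
      split_ifs
      · have h1 := card_rest g x
        have h2 := csz_pos g x
        exact ih _ (by omega) (rest g x) _ rfl
      · rfl

end Cfsg.Agent.H614
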