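import Cfsg.Agent.H614.DefSyl

/-!
# Defect groups and the alternating group

* `exists_degree_p_sylow` : the Sylow `p`-subgroups of the symmetric groups of degree at least `p ^ 2`
  have an irreducible character of degree `p`;
* `alt_degree_two` : the even part of a defect group of a `2`-block of weight at least three has an
  irreducible character of degree two.
-/

set_option autoImplicit false
set_option linter.unusedSectionVars false

namespace Cfsg.Agent.H614

open Finset Cfsg Cfsg.Agent.Characters.Core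

universe u

theorem degree_of_surjective {G H : Type*} [Group G] [Group H] {p : ℕ} (f : G →* H)
    (hf : Function.Surjective f) (h : ∃ φ : IrrCharacter H, charDegree (φ : H → ℂ) = p) :
    ∃ φ : IrrCharacter G, charDegree (φ : G → ℂ) = p := by
  obtain ⟨φ, hφ⟩ := h
  refine ⟨⟨_, isIrr_comp f hf φ.2⟩, ?_⟩
  rw [← hφ]
  unfold charDegree
  show ⌊((φ : H → ℂ) (f 1)).re⌋₊ = _
  rw [map_one]

variable {α : Type u} [Fintype α] [DecidableEq α] {p : ℕ} [hp : Fact p.Prime]

theorem factorization_supS {z : Equiv.Perm α} {w : ℕ} (hz : z.cycleType = Multiset.replicate w p) :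
    (Nat.card (supS z)).factorization p = w + padicValNat p w.factorial := by
  rw [card_supS hz, Nat.factorization_def _ hp.out,
    padicValNat.mul (pow_ne_zero _ hp.out.ne_zero) (Nat.factorial_ne_zero _), padicValNat.prime_pow]

theorem isPGroup_cyc {z : Equiv.Perm α} (hz : z ^ p = 1) : IsPGroup p (cyc z) := by
  intro g
  refine ⟨1, ?_⟩
  rw [pow_one]
  exact Subtype.ext (cyc_pow hz g.2)

theorem one_le_val_factorial {w : ℕ} (h : p ≤ w) : 1 ≤ padicValNat p w.factorial := by
  apply one_le_padicValNat_of_dvd (Nat.factorial_ne_zero _)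
  rw [hp.out.dvd_factorial]
  exact h

/-- A subgroup between `cyc z` and `supS z` of the right order is not contained in `cyc z`. -/
theorem not_le_cyc {z : Equiv.Perm α} {w : ℕ} (hz : z.cycleType = Multiset.replicate w p)
    {D : Subgroup (Equiv.Perm α)} (hD : Nat.card D = p ^ (w + padicValNat p w.factorial))
    (hw : p ≤ w) : ¬ D ≤ cyc z := by
  intro h
  have h1 := Nat.card_le_card_of_injective (Subgroup.inclusion h) (Subgroup.inclusion_injective h)
  rw [hD, card_cyc hz] at h1
  have h2 := (Nat.pow_le_pow_iff_right hp.out.one_lt).mp h1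
  have h3 := one_le_val_factorial (p := p) hw
  omega

/-- **The Sylow `p`-subgroups of the symmetric groups of degree at least `p ^ 2`** have an irreducible
character of degree `p`. -/
theorem exists_degree_p_sylow (h : p * p ≤ Fintype.card α) (P : Sylow p (Equiv.Perm α)) :
    ∃ φ : IrrCharacter P, charDegree (φ : P → ℂ) = p := by
  have hpp := hp.out.pos
  set w := Fintype.card α / p with hw
  have hpw : p ≤ w := by rw [hw, Nat.le_div_iff_mul_le hpp]; exact h
  obtain ⟨z, hz⟩ := exists_cycleType (α := α) (p := p) (w := w) (by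
    rw [hw]; exact Nat.mul_div_le _ _)
  have hzp := pow_eq_one_of_cycleType hz
  have h1 : IsPGroup p ((cyc z).subgroupOf (supS z)) := (isPGroup_cyc hzp).comap_subtype
  obtain ⟨Q, hQ⟩ := h1.exists_le_sylow
  have hQc : Nat.card (Q.toSubgroup.map (supS z).subtype) = p ^ (w + padicValNat p w.factorial) := by
    rw [← Nat.card_congr (Subgroup.equivMapOfInjective _ _ (Subgroup.subtype_injective _)).toEquiv,
      Sylow.card_eq_multiplicity, factorization_supS hz]
  have hQc' : Nat.card (Q.toSubgroup.map (supS z).subtype) =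
      p ^ (Nat.card (Equiv.Perm α)).factorization p := by
    rw [hQc, card_perm_fact, val_factorial (Fintype.card α), ← hw]
  let Q' : Sylow p (Equiv.Perm α) := Sylow.ofCard _ hQc'
  have hQ' : ∃ φ : IrrCharacter Q', charDegree (φ : Q' → ℂ) = p := by
    refine exists_degree_p_of_cyc hzp Q'.toSubgroup Q'.2 ?_ ?_ ?_
    · rintro _ ⟨g, -, rfl⟩
      exact g.2
    · intro e he
      exact ⟨⟨e, cyc_le_supS z he⟩, hQ he, rfl⟩
    · exact not_le_cyc hz hQc hpw
  exact degree_of_surjective (Sylow.equiv P Q').toMonoidHom (Sylow.equiv P Q').surjective hQ'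

/-! ### The prime two -/

section Two

variable {z : Equiv.Perm α} {w : ℕ}

theorem cycle_mem_cyc {c : Equiv.Perm α} (hc : c ∈ z.cycleFactorsFinset) : c ∈ cyc z := by
  obtain ⟨hc1, hc2⟩ := Equiv.Perm.mem_cycleFactorsFinset_iff.mp hc
  refine ⟨(Equiv.Perm.self_mem_cycle_factors_commute hc), fun y => ?_⟩
  by_cases hy : c y = y
  · rw [hy]
  · refine ⟨1, ?_⟩
    rw [zpow_one, hc2 y (Equiv.Perm.mem_support.mpr hy)]

theorem sign_cycle (hz : z.cycleType = Multiset.replicate w 2) {c : Equiv.Perm α}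
    (hc : c ∈ z.cycleFactorsFinset) : Equiv.Perm.sign c = -1 := by
  obtain ⟨hc1, hc2⟩ := Equiv.Perm.mem_cycleFactorsFinset_iff.mp hc
  have h2 : c.support.card ∈ z.cycleType := by
    rw [Equiv.Perm.cycleType_def]
    exact Multiset.mem_map_of_mem _ hc
  rw [hz] at h2
  rw [hc1.sign, Multiset.eq_of_mem_replicate h2]
  rfl

theorem exists_odd_cyc (hz : z.cycleType = Multiset.replicate w 2) (hw : 0 < w) :
    ∃ c ∈ cyc z, Equiv.Perm.sign c = -1 := by
  have h1 : z.cycleFactorsFinset.Nonempty := by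
    rw [← Finset.card_pos, ← Fintype.card_coe, card_cycleFactors hz]
    exact hw
  obtain ⟨c, hc⟩ := h1
  exact ⟨c, cycle_mem_cyc hc, sign_cycle hz hc⟩

/-- The even part of a group containing an odd permutation has index two. -/
theorem card_inf_alternating {D : Subgroup (Equiv.Perm α)} {c : Equiv.Perm α} (hc : c ∈ D)
    (hs : Equiv.Perm.sign c = -1) :
    Nat.card D = 2 * Nat.card (D ⊓ alternatingGroup α : Subgroup (Equiv.Perm α)) := by
  let f : D →* ℤˣ := Equiv.Perm.sign.comp D.subtype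
  have hf : Function.Surjective f := by
    intro a
    rcases Int.units_eq_one_or a with rfl | rfl
    · exact ⟨1, map_one f⟩
    · exact ⟨⟨c, hc⟩, hs⟩
  have h1 := f.ker.card_mul_index
  rw [Subgroup.index_ker, MonoidHom.range_eq_top.mpr hf, Subgroup.card_top] at h1
  have h2 : Nat.card ℤˣ = 2 := by simp
  have h3 : Nat.card f.ker = Nat.card (D ⊓ alternatingGroup α : Subgroup (Equiv.Perm α)) := by
    refine Nat.card_congr
      ⟨fun g => ⟨((g : D) : Equiv.Perm α), (g : D).2, Equiv.Perm.mem_alternatingGroup.mpr g.2⟩,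
        fun g => ⟨⟨g, g.2.1⟩, Equiv.Perm.mem_alternatingGroup.mp g.2.2⟩, fun g => rfl, fun g => rfl⟩
  rw [h2, h3] at h1
  omega

/-- The even part of a defect group of weight at least three has an irreducible character of degree
two. -/
theorem alt_degree_two (hz : z.cycleType = Multiset.replicate w 2) {D : Subgroup (Equiv.Perm α)}
    (h1 : cyc z ≤ D) (h2 : D ≤ supS z)
    (h3 : Nat.card D = 2 ^ (w + padicValNat 2 w.factorial)) (hw : 3 ≤ w) :
    ∃ φ : IrrCharacter (D ⊓ alternatingGroup α : Subgroup (Equiv.Perm α)),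
      charDegree (φ : (D ⊓ alternatingGroup α : Subgroup (Equiv.Perm α)) → ℂ) = 2 := by
  have hp2 : Fact (Nat.Prime 2) := ⟨Nat.prime_two⟩
  have hzp : z ^ 2 = 1 := pow_eq_one_of_cycleType hz
  obtain ⟨c₀, hc₀, hs₀⟩ := exists_odd_cyc hz (by omega)
  have hDp : IsPGroup 2 D := IsPGroup.of_card h3
  by_cases hw4 : 4 ≤ w
  · have hcard : Nat.card (D.subgroupOf (supS z)) = 2 ^ (Nat.card (supS z)).factorization 2 := by
      rw [Nat.card_congr (Subgroup.subgroupOfEquivOfLe h2).toEquiv, h3, factorization_supS hz]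
    let P : Sylow 2 (supS z) := Sylow.ofCard _ hcard
    let P' := P.mapSurjective (rho_surjective hz)
    have hP' : ∃ φ : IrrCharacter P', charDegree (φ : P' → ℂ) = 2 :=
      exists_degree_p_sylow (by rw [card_cycleFactors hz]; exact hw4) P'
    let f : (D ⊓ alternatingGroup α : Subgroup (Equiv.Perm α)) →* P' :=
      ((rho z).comp (Subgroup.inclusion (inf_le_left.trans h2))).codRestrict P'.toSubgroup
        (fun g => ⟨⟨g, h2 g.2.1⟩, g.2.1, rfl⟩)
    refine degree_of_surjective f ?_ hP'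
    rintro ⟨_, ⟨d, hd, rfl⟩⟩
    have hdD : (d : Equiv.Perm α) ∈ D := hd
    rcases Int.units_eq_one_or (Equiv.Perm.sign (d : Equiv.Perm α)) with h4 | h4
    · exact ⟨⟨d, hdD, Equiv.Perm.mem_alternatingGroup.mpr h4⟩, rfl⟩
    · refine ⟨⟨d * c₀, D.mul_mem hdD (h1 hc₀), Equiv.Perm.mem_alternatingGroup.mpr
        (by rw [map_mul, h4, hs₀]; rfl)⟩, ?_⟩
      · apply Subtype.ext
        show rho z ⟨d * c₀, _⟩ = rho z d
        have h5 : (⟨c₀, cyc_le_supS z hc₀⟩ : supS z) ∈ (rho z).ker := (mem_ker_rho z _).mpr hc₀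
        have h6 : (⟨d * c₀, h2 (D.mul_mem hdD (h1 hc₀))⟩ : supS z) = d * ⟨c₀, cyc_le_supS z hc₀⟩ := rfl
        rw [h6, map_mul, MonoidHom.mem_ker.mp h5, mul_one]
  · -- weight three
    have hw3 : w = 3 := by omega
    let _ : MulAction D z.cycleFactorsFinset :=
      MulAction.compHom _ ((rho z).comp (Subgroup.inclusion h2))
    obtain ⟨c', hc'⟩ := hDp.nonempty_fixed_point_of_prime_not_dvd_card z.cycleFactorsFinset (by
      rw [Nat.card_eq_fintype_card, card_cycleFactors hz, hw3]; norm_num)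
    have hfix : ∀ g ∈ D, g * (c' : Equiv.Perm α) * g⁻¹ = c' := by
      intro g hg
      have h4 := MulAction.mem_fixedPoints.mp hc' ⟨g, hg⟩
      exact Subtype.ext_iff.mp h4
    obtain ⟨g, hg, hg'⟩ := SetLike.not_le_iff_exists.mp (not_le_cyc hz h3 (by omega))
    -- an even element moving a cycle
    obtain ⟨g₁, hg₁, hg₁s, hg₁'⟩ : ∃ g₁ ∈ D, Equiv.Perm.sign g₁ = 1 ∧ g₁ ∉ cyc z := by
      rcases Int.units_eq_one_or (Equiv.Perm.sign g) with h4 | h4
      · exact ⟨g, hg, h4, hg'⟩
      · refine ⟨g * c₀, D.mul_mem hg (h1 hc₀), by rw [map_mul, h4, hs₀]; rfl, fun h5 => hg' ?_⟩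
        have h6 := (cyc z).mul_mem h5 ((cyc z).inv_mem hc₀)
        rwa [mul_inv_cancel_right] at h6
    have hg₁z := h2 hg₁
    obtain ⟨x, hx⟩ : ∃ x, ¬ z.SameCycle x (g₁ x) := by
      by_contra h
      push Not at h
      exact hg₁' ⟨hg₁z.1, h⟩
    have hzx : z x ≠ x := by
      intro h
      apply hx
      rw [hg₁z.2 x h]
    have hcx : z.cycleOf x ∈ z.cycleFactorsFinset :=
      Equiv.Perm.cycleOf_mem_cycleFactorsFinset_iff.mpr (Equiv.Perm.mem_support.mpr hzx)
    -- `x` is not moved by `c'`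
    have hc'x : (c' : Equiv.Perm α) x = x := by
      by_contra h
      apply hx
      have h4 := Equiv.Perm.mem_cycleFactorsFinset_iff.mp c'.2
      have h5 : (c' : Equiv.Perm α) (g₁ x) ≠ g₁ x := by
        have h6 := hfix g₁ hg₁
        rw [mul_inv_eq_iff_eq_mul] at h6
        rw [← Equiv.Perm.mul_apply, ← h6, Equiv.Perm.mul_apply]
        exact fun h7 => h (g₁.injective h7)
      have h6 := Equiv.Perm.cycle_is_cycleOf (f := z) (Equiv.Perm.mem_support.mpr h) c'.2
      rw [h6] at h5
      by_contra h7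
      exact h5 (Equiv.Perm.cycleOf_apply_of_not_sameCycle h7)
    have hc'g : ∀ d ∈ D, (c' : Equiv.Perm α) (d x) = d x := by
      intro d hd
      have h6 := hfix d hd
      rw [mul_inv_eq_iff_eq_mul] at h6
      rw [← Equiv.Perm.mul_apply, ← h6, Equiv.Perm.mul_apply, hc'x]
    have heD : z.cycleOf x * (c' : Equiv.Perm α) ∈ D ⊓ alternatingGroup α := by
      exact ⟨h1 ((cyc z).mul_mem (cycle_mem_cyc hcx) (cycle_mem_cyc c'.2)),
        Equiv.Perm.mem_alternatingGroup.mpr
          (by rw [map_mul, sign_cycle hz hcx, sign_cycle hz c'.2]; rfl)⟩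
    refine exists_degree_p_perm hzp (D ⊓ alternatingGroup α) (hDp.to_le inf_le_left)
      (fun g hg => (h2 hg.1).1) hzx heD
      ((cyc z).mul_mem (cycle_mem_cyc hcx) (cycle_mem_cyc c'.2)) ?_
      ⟨g₁, ⟨hg₁, Equiv.Perm.mem_alternatingGroup.mpr hg₁s⟩, hx⟩ ?_
    · rw [Equiv.Perm.mul_apply, hc'x, Equiv.Perm.cycleOf_apply_self]
      exact hzx
    · intro d hd hd'
      rw [Equiv.Perm.mul_apply, hc'g d hd.1]
      exact Equiv.Perm.cycleOf_apply_of_not_sameCycle hd'

end Two

end Cfsg.Agent.H614
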