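import Mathlib

/-!
# Sums over the symmetric group as sums over partitions

* `zz s` : the order of the centralizer of a permutation with cycle lengths `s`;
* `Z n f` : the average `∑_{ν ⊢ n} f ν / z_ν`;
* `sum_perm` : `∑_{g ∈ Perm α} f (cycle lengths of g) = (card α)! * Z (card α) f`;
* `Z_mark` : `Z n (r m_r f) = Z (n - r) (f (r :: ·))`.
-/

set_option autoImplicit false

namespace Cfsg.Agent.H614

open Finset

/-- The order of the centralizer of a permutation with cycle lengths `s`. -/
def zz (s : Multiset ℕ) : ℕ := s.prod * ∏ i ∈ s.toFinset, (s.count i).factorial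

theorem zz_eq (s : Multiset ℕ) {T : Finset ℕ} (hT : s.toFinset ⊆ T) :
    zz s = s.prod * ∏ i ∈ T, (s.count i).factorial := by
  unfold zz
  congr 1
  refine Finset.prod_subset hT fun i _ hi => ?_
  rw [Multiset.count_eq_zero.mpr (by simpa using hi)]; rfl

theorem zz_cons (r : ℕ) (s : Multiset ℕ) : zz (r ::ₘ s) = r * (s.count r + 1) * zz s := by
  have h1 : (r ::ₘ s).toFinset ⊆ insert r s.toFinset := by simp
  have h2 : s.toFinset ⊆ insert r s.toFinset := Finset.subset_insert _ _
  rw [zz_eq _ h1, zz_eq _ h2]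
  have hr : r ∈ insert r s.toFinset := Finset.mem_insert_self _ _
  rw [← Finset.mul_prod_erase _ _ hr, ← Finset.mul_prod_erase _ (fun i => (s.count i).factorial) hr,
    Multiset.prod_cons, Multiset.count_cons_self, Nat.factorial_succ]
  rw [Finset.prod_congr rfl (g := fun i => (s.count i).factorial)]
  · ring
  · intro i hi
    rw [Multiset.count_cons_of_ne (Finset.ne_of_mem_erase hi)]

theorem zz_pos {s : Multiset ℕ} (h : ∀ i ∈ s, 0 < i) : 0 < zz s := by
  unfold zz
  have : 0 < s.prod := Multiset.prod_pos h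
  positivity

/-- The average over the partitions of `n`. -/
def Z (n : ℕ) (f : Multiset ℕ → ℚ) : ℚ := ∑ ν : n.Partition, f ν.parts / zz ν.parts

theorem Z_congr {n : ℕ} {f g : Multiset ℕ → ℚ}
    (h : ∀ s : Multiset ℕ, s.sum = n → (∀ i ∈ s, 0 < i) → f s = g s) : Z n f = Z n g := by
  unfold Z
  refine Finset.sum_congr rfl fun ν _ => ?_
  rw [h ν.parts ν.parts_sum (fun i hi => ν.parts_pos hi)]

theorem Z_add (n : ℕ) (f g : Multiset ℕ → ℚ) : Z n (fun s => f s + g s) = Z n f + Z n g := by
  unfold Z
  rw [← Finset.sum_add_distrib]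
  exact Finset.sum_congr rfl fun ν _ => by ring

theorem Z_smul (n : ℕ) (c : ℚ) (f : Multiset ℕ → ℚ) : Z n (fun s => c * f s) = c * Z n f := by
  unfold Z
  rw [Finset.mul_sum]
  exact Finset.sum_congr rfl fun ν _ => by ring

theorem Z_finsum {ι : Type*} (n : ℕ) (t : Finset ι) (f : ι → Multiset ℕ → ℚ) :
    Z n (fun s => ∑ i ∈ t, f i s) = ∑ i ∈ t, Z n (f i) := by
  unfold Z
  rw [Finset.sum_comm]
  exact Finset.sum_congr rfl fun ν _ => by rw [Finset.sum_div]

theorem Z_zero_eq (f : Multiset ℕ → ℚ) : Z 0 f = f 0 := by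
  unfold Z
  have hu : (univ : Finset (Nat.Partition 0)) = {default} := by
    ext x; simp [Subsingleton.elim x default]
  have hp : (default : Nat.Partition 0).parts = 0 := by
    have h := (default : Nat.Partition 0).parts_sum
    by_contra hne
    obtain ⟨a, ha⟩ := Multiset.exists_mem_of_ne_zero hne
    have h1 := (default : Nat.Partition 0).parts_pos ha
    have h2 := Multiset.le_sum_of_mem ha
    omega
  rw [hu, Finset.sum_singleton, hp]
  simp [zz]

/-- Marking a part equal to `r`. -/
theorem Z_mark {n r : ℕ} (hr : 0 < r) (hrn : r ≤ n) (f : Multiset ℕ → ℚ) :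
    Z n (fun s => (r * s.count r : ℕ) * f s) = Z (n - r) (fun s => f (r ::ₘ s)) := by
  unfold Z
  rw [← Finset.sum_filter_of_ne (p := fun ν : n.Partition => r ∈ ν.parts)]
  swap
  · intro ν _ h
    by_contra hn
    beta_reduce at h
    rw [Multiset.count_eq_zero.mpr hn] at h
    simp at h
  refine Finset.sum_bij' (i := fun ν hν => (⟨ν.parts.erase r, ?_, ?_⟩ : (n - r).Partition))
    (j := fun ν _ => (⟨r ::ₘ ν.parts, ?_, ?_⟩ : n.Partition)) ?_ ?_ ?_ ?_ ?_
  · intro i hi
    exact ν.parts_pos (Multiset.mem_of_mem_erase hi)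
  · have h1 : r ∈ ν.parts := (Finset.mem_filter.mp hν).2
    have h2 := Multiset.cons_erase h1
    have h3 := ν.parts_sum
    rw [← h2, Multiset.sum_cons] at h3
    omega
  · intro i hi
    rcases Multiset.mem_cons.mp hi with rfl | h
    · exact hr
    · exact ν.parts_pos h
  · rw [Multiset.sum_cons, ν.parts_sum]; omega
  · intro ν _; simp
  · intro ν _; simp
  · intro ν hν
    have h1 : r ∈ ν.parts := (Finset.mem_filter.mp hν).2
    apply Nat.Partition.ext
    exact Multiset.cons_erase h1
  · intro ν _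
    apply Nat.Partition.ext
    simp
  · intro ν hν
    have h1 : r ∈ ν.parts := (Finset.mem_filter.mp hν).2
    obtain ⟨s, hs⟩ : ∃ s, s = ν.parts.erase r := ⟨_, rfl⟩
    have h2 : ν.parts = r ::ₘ s := by rw [hs]; exact (Multiset.cons_erase h1).symm
    simp only
    rw [← hs, h2, Multiset.count_cons_self, zz_cons]
    have h3 : (zz s : ℚ) ≠ 0 := by
      have : 0 < zz s := zz_pos fun i hi => ν.parts_pos (by rw [h2]; exact Multiset.mem_cons_of_mem hi)
      exact_mod_cast this.ne'
    have h4 : (r : ℚ) ≠ 0 := by exact_mod_cast hr.ne'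
    have h5 : ((s.count r : ℚ) + 1) ≠ 0 := by positivity
    push_cast
    field_simp

theorem sum_eq_sum_count {n : ℕ} {s : Multiset ℕ} (hs : s.sum = n) (hpos : ∀ i ∈ s, 0 < i)
    (P : ℕ → Prop) [DecidablePred P] :
    (s.filter P).sum = ∑ r ∈ (Finset.Icc 1 n).filter P, r * s.count r := by
  have h1 : (s.filter P).toFinset ⊆ (Finset.Icc 1 n).filter P := by
    intro i hi
    rw [Multiset.mem_toFinset, Multiset.mem_filter] at hi
    rw [Finset.mem_filter, Finset.mem_Icc]
    refine ⟨⟨hpos i hi.1, ?_⟩, hi.2⟩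
    rw [← hs]; exact Multiset.le_sum_of_mem hi.1
  rw [Finset.sum_multiset_count_of_subset _ _ h1]
  refine Finset.sum_congr rfl fun r hr => ?_
  rw [Multiset.count_filter_of_pos (Finset.mem_filter.mp hr).2, smul_eq_mul, mul_comm]

/-- The marking identity for all parts with a property `P`. -/
theorem Z_filter (n : ℕ) (P : ℕ → Prop) [DecidablePred P] (f : Multiset ℕ → ℚ) :
    Z n (fun s => ((s.filter P).sum : ℕ) * f s) =
      ∑ r ∈ (Finset.Icc 1 n).filter P, Z (n - r) (fun s => f (r ::ₘ s)) := by
  rw [Z_congr (g := fun s => ∑ r ∈ (Finset.Icc 1 n).filter P, ((r * s.count r : ℕ) : ℚ) * f s),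
    Z_finsum]
  · refine Finset.sum_congr rfl fun r hr => ?_
    rw [Finset.mem_filter, Finset.mem_Icc] at hr
    exact Z_mark hr.1.1 hr.1.2 f
  · intro s hs hpos
    rw [sum_eq_sum_count hs hpos, ← Finset.sum_mul]
    push_cast
    rfl

theorem Z_rec (n : ℕ) (f : Multiset ℕ → ℚ) :
    n * Z n f = ∑ r ∈ Finset.Icc 1 n, Z (n - r) (fun s => f (r ::ₘ s)) := by
  have h := Z_filter n (fun _ => True) f
  simp only [Finset.filter_true] at h
  rw [← h, ← Z_smul]
  apply Z_congr
  intro s hs _
  rw [Multiset.filter_true, hs]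

/-! ### Sums over permutations -/

section Perm

variable {α : Type*} [Fintype α] [DecidableEq α]

/-- The cycle lengths of a permutation, including the fixed points. -/
def ty (g : Equiv.Perm α) : Multiset ℕ := g.partition.parts

theorem ty_sum (g : Equiv.Perm α) : (ty g).sum = Fintype.card α := g.partition.parts_sum

theorem ty_pos (g : Equiv.Perm α) : ∀ i ∈ ty g, 0 < i := fun _ hi => g.partition.parts_pos hi

theorem parts_eq {n : ℕ} (ν : n.Partition) :
    ν.parts = ν.parts.filter (fun k => 2 ≤ k) + Multiset.replicate (ν.parts.count 1) 1 := by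
  conv_lhs => rw [← Multiset.filter_add_not (fun k => 2 ≤ k) ν.parts]
  congr 1
  rw [← Multiset.filter_eq']
  apply Multiset.filter_congr
  intro i hi
  have := ν.parts_pos hi
  omega

theorem count_one_eq {n : ℕ} (ν : n.Partition) :
    n = (ν.parts.filter (fun k => 2 ≤ k)).sum + ν.parts.count 1 := by
  have h := ν.parts_sum
  rw [parts_eq ν, Multiset.sum_add] at h
  simpa using h.symm

theorem partition_eq_iff {n : ℕ} (ν ν' : n.Partition) :
    ν = ν' ↔ ν.parts.filter (fun k => 2 ≤ k) = ν'.parts.filter (fun k => 2 ≤ k) := by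
  constructor
  · rintro rfl; rfl
  · intro h
    apply Nat.Partition.ext
    have h1 := count_one_eq ν
    have h2 := count_one_eq ν'
    rw [parts_eq ν, parts_eq ν', h]
    congr 2
    rw [h] at h1
    omega

theorem card_partition_eq (ν : (Fintype.card α).Partition) :
    #{g : Equiv.Perm α | g.partition = ν} * zz ν.parts = (Fintype.card α).factorial := by
  have h1 : ({g : Equiv.Perm α | g.partition = ν} : Finset (Equiv.Perm α)) =
      ({g : Equiv.Perm α | g.cycleType = ν.parts.filter (fun k => 2 ≤ k)} : Finset (Equiv.Perm α)) := by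
    ext g
    simp only [Finset.mem_filter, Finset.mem_univ, true_and]
    rw [partition_eq_iff, Equiv.Perm.filter_parts_partition_eq_cycleType]
  rw [h1]
  have h2 := Equiv.Perm.card_of_cycleType_mul_eq α (ν.parts.filter (fun k => 2 ≤ k))
  have h3 := count_one_eq ν
  rw [if_pos] at h2
  swap
  · refine ⟨by omega, fun a ha => (Multiset.mem_filter.mp ha).2⟩
  rw [← h2]
  congr 1
  have h4 : Fintype.card α - (ν.parts.filter (fun k => 2 ≤ k)).sum = ν.parts.count 1 := by omega
  rw [h4]
  have h5 : ν.parts.toFinset ⊆ insert 1 (ν.parts.filter (fun k => 2 ≤ k)).toFinset := by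
    intro i hi
    rw [Multiset.mem_toFinset] at hi
    rw [Finset.mem_insert, Multiset.mem_toFinset, Multiset.mem_filter]
    have := ν.parts_pos hi
    by_cases h : i = 1
    · exact Or.inl h
    · exact Or.inr ⟨hi, by omega⟩
  rw [zz_eq _ h5, Finset.prod_insert (by simp)]
  have h6 : ν.parts.prod = (ν.parts.filter (fun k => 2 ≤ k)).prod := by
    conv_lhs => rw [parts_eq ν]
    simp
  rw [h6, Finset.prod_congr rfl (g := fun i => ((ν.parts.filter (fun k => 2 ≤ k)).count i).factorial)]
  · ring
  · intro i hi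
    rw [Multiset.mem_toFinset, Multiset.mem_filter] at hi
    rw [Multiset.count_filter_of_pos hi.2]

/-- Sums over the symmetric group of functions of the cycle lengths. -/
theorem sum_perm (f : Multiset ℕ → ℚ) :
    ∑ g : Equiv.Perm α, f (ty g) = (Fintype.card α).factorial * Z (Fintype.card α) f := by
  rw [← Finset.sum_fiberwise (s := univ) (g := fun g : Equiv.Perm α => g.partition)]
  unfold Z
  rw [Finset.mul_sum]
  refine Finset.sum_congr rfl fun ν _ => ?_
  rw [Finset.sum_congr rfl (g := fun _ => f ν.parts), Finset.sum_const, ← card_partition_eq ν]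
  · have h3 : (zz ν.parts : ℚ) ≠ 0 := by
      have : 0 < zz ν.parts := zz_pos fun i hi => ν.parts_pos hi
      exact_mod_cast this.ne'
    push_cast
    rw [nsmul_eq_mul]
    field_simp
  · intro g hg
    rw [ty, (Finset.mem_filter.mp hg).2]

end Perm

end Cfsg.Agent.H614
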