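import Cfsg.Agent.H614.Weight

/-!
# Removing all `p`-hooks

`FM_hooks` : `F_β (p^w ∪ s) = f F_{core β} (s)` with a positive integer `f` if `β` has weight `w`.
-/

set_option autoImplicit false
set_option linter.unusedSectionVars false

namespace Cfsg.Agent.H614

open Finset

variable {m : ℕ}

/-- The core tuple: all entries are pushed down on their runners. -/
def core (p : ℕ) (β : Fin m → ℕ) : Fin m → ℕ := fun j => p * low p β j + β j % p

theorem core_mod {p : ℕ} (β : Fin m → ℕ) (j : Fin m) : core p β j % p = β j % p := by
  unfold core
  rw [Nat.mul_add_mod, Nat.mod_mod]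

theorem core_div {p : ℕ} (hp : 0 < p) (β : Fin m → ℕ) (j : Fin m) : core p β j / p = low p β j := by
  unfold core
  rw [Nat.mul_add_div hp, Nat.div_eq_of_lt (Nat.mod_lt _ hp), add_zero]

theorem low_lt {p : ℕ} {β : Fin m → ℕ} {j k : Fin m} (hmod : β j % p = β k % p) (h : β j < β k) :
    low p β j < low p β k := by
  unfold low
  apply Finset.card_lt_card
  rw [Finset.ssubset_iff_of_subset]
  · refine ⟨j, ?_, ?_⟩
    · simp only [Finset.mem_filter, Finset.mem_univ, true_and]; exact ⟨hmod, h⟩
    · simp
  · intro x hx
    simp only [Finset.mem_filter, Finset.mem_univ, true_and] at hx ⊢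
    exact ⟨hx.1.trans hmod, hx.2.trans h⟩

theorem core_injective {p : ℕ} (hp : 0 < p) {β : Fin m → ℕ} (hβ : Function.Injective β) :
    Function.Injective (core p β) := by
  intro j k hjk
  have h1 : β j % p = β k % p := by rw [← core_mod β j, ← core_mod β k, hjk]
  have h2 : low p β j = low p β k := by rw [← core_div hp β j, ← core_div hp β k, hjk]
  rcases lt_trichotomy (β j) (β k) with h | h | h
  · exact absurd h2 (low_lt h1 h).ne
  · exact hβ h
  · exact absurd h2 (low_lt h1.symm h).ne'

theorem sum_core {p : ℕ} {β : Fin m → ℕ} (hβ : Function.Injective β) {w : ℕ}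
    (h : ∑ j, β j / p = w + npairs p β) : ∑ j, core p β j + p * w = ∑ j, β j := by
  unfold core
  rw [Finset.sum_add_distrib, ← Finset.mul_sum, sum_low p hβ]
  have h1 : ∑ j, β j = p * ∑ j, β j / p + ∑ j, β j % p := by
    rw [Finset.mul_sum, ← Finset.sum_add_distrib]
    exact Finset.sum_congr rfl fun j _ => (Nat.div_add_mod _ _).symm
  rw [h1, h]
  ring

/-- The core of a tuple of weight zero. -/
theorem core_eq_self {p : ℕ} (hp : 0 < p) {β : Fin m → ℕ} (hβ : Function.Injective β)
    (h : ∑ j, β j / p = npairs p β) : core p β = β := by
  funext j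
  unfold core
  rw [low_eq_of_weight_zero hp hβ h j]
  exact Nat.div_add_mod _ _

/-- Moving one entry down one step without collision does not change the core. -/
theorem core_dn {p : ℕ} (hp : 0 < p) {β : Fin m → ℕ} (hβ : Function.Injective β) {j : Fin m}
    (hj : p ≤ β j) (hinj : Function.Injective (dn β j p)) : core p (dn β j p) = core p β := by
  have hmod : ∀ k, dn β j p k % p = β k % p := dn_mod (dvd_refl p) β j hj
  funext l
  unfold core
  rw [hmod]
  congr 2
  unfold low
  congr 1
  ext k
  simp only [Finset.mem_filter, Finset.mem_univ, true_and, hmod]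
  constructor
  · rintro ⟨h1, h2⟩
    refine ⟨h1, ?_⟩
    by_cases hk : k = j
    · subst hk
      by_cases hl : l = k
      · subst hl; exact absurd h2 (lt_irrefl _)
      · rw [dn_self, dn_ne _ _ hl] at h2
        -- `β k - p < β l`, same residue, `β l ≠ β k`
        by_contra hcon
        push Not at hcon
        have h3 : β l ≠ β k := fun h => hl (hβ h)
        have h4 := Nat.div_add_mod (β k) p
        have h5 := Nat.div_add_mod (β l) p
        rw [← h1] at h5
        have h6 : β l / p < β k / p := by
          by_contra h7
          push Not at h7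
          have := Nat.mul_le_mul_left p h7
          omega
        have h8 : p * (β l / p) + p ≤ p * (β k / p) := by
          have := Nat.mul_le_mul_left p h6
          rw [Nat.mul_succ] at this
          exact this
        omega
    · rw [dn_ne _ _ hk] at h2
      by_cases hl : l = j
      · subst hl; rw [dn_self] at h2; omega
      · rwa [dn_ne _ _ hl] at h2
  · rintro ⟨h1, h2⟩
    refine ⟨h1, ?_⟩
    by_cases hk : k = j
    · subst hk
      have hl : l ≠ k := by rintro rfl; exact absurd h2 (lt_irrefl _)
      rw [dn_self, dn_ne _ _ hl]; omega
    · rw [dn_ne _ _ hk]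
      by_cases hl : l = j
      · subst hl
        rw [dn_self]
        have h4 := Nat.div_add_mod (β k) p
        have h5 := Nat.div_add_mod (β l) p
        rw [h1] at h4
        have h6 : β k / p < β l / p := by
          by_contra h7
          push Not at h7
          have := Nat.mul_le_mul_left p h7
          omega
        have h8 : p * (β k / p) + p ≤ p * (β l / p) := by
          have := Nat.mul_le_mul_left p h6
          rw [Nat.mul_succ] at this
          exact this
        have h9 : β k ≤ β l - p := by omega
        have h10 : dn β l p k ≠ dn β l p l := fun h => hk (hinj h)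
        rw [dn_self, dn_ne _ _ hk] at h10
        omega
      · rw [dn_ne _ _ hl]; exact h2

/-- A tuple of positive weight has a removable `p`-hook. -/
theorem exists_hook {p : ℕ} (hp : 0 < p) {β : Fin m → ℕ} (hβ : Function.Injective β) {w : ℕ}
    (h : ∑ j, β j / p = (w + 1) + npairs p β) :
    ∃ j, p ≤ β j ∧ Function.Injective (dn β j p) := by
  classical
  have h1 : ∃ j, low p β j < β j / p := by
    by_contra hne
    push Not at hne
    have h2 : ∑ j, β j / p ≤ ∑ j, low p β j := Finset.sum_le_sum fun j _ => hne j
    rw [sum_low p hβ] at h2
    omega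
  set S : Finset (Fin m) := {j | low p β j < β j / p} with hS
  have hne : S.Nonempty := by
    obtain ⟨j, hj⟩ := h1
    exact ⟨j, by simp [hS, hj]⟩
  obtain ⟨j, hjS, hmin⟩ := Finset.exists_min_image S β hne
  have hj : low p β j < β j / p := by simpa [hS] using hjS
  have hpj : p ≤ β j := by
    by_contra hcon
    push Not at hcon
    rw [Nat.div_eq_of_lt hcon] at hj
    omega
  refine ⟨j, hpj, ?_⟩
  have hno : ∀ l, l ≠ j → β l ≠ β j - p := by
    intro l hl hbl
    have hmodl : β l % p = β j % p := by
      have : β j = β l + p := by omega
      rw [this]; simp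
    have hdiv : β j / p = β l / p + 1 := by
      have : β j = β l + p := by omega
      rw [this, Nat.add_div_right _ hp]
    have hlow : low p β j = low p β l + 1 := by
      unfold low
      have hset : ({k | β k % p = β j % p ∧ β k < β j} : Finset (Fin m)) =
          insert l ({k | β k % p = β l % p ∧ β k < β l} : Finset (Fin m)) := by
        ext k
        simp only [Finset.mem_filter, Finset.mem_univ, true_and, Finset.mem_insert]
        constructor
        · rintro ⟨h3, h4⟩
          by_cases hkl : k = l
          · exact Or.inl hkl
          · right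
            refine ⟨h3.trans hmodl.symm, ?_⟩
            have h5 : β k ≠ β l := fun h => hkl (hβ h)
            by_contra hcon
            push Not at hcon
            have h6 := Nat.div_add_mod (β k) p
            have h7 := Nat.div_add_mod (β l) p
            rw [h3] at h6
            rw [hmodl] at h7
            have h8 : β l / p < β k / p := by
              by_contra h9
              push Not at h9
              have := Nat.mul_le_mul_left p h9
              omega
            have h10 : p * (β l / p) + p ≤ p * (β k / p) := by
              have := Nat.mul_le_mul_left p h8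
              rw [Nat.mul_succ] at this
              exact this
            omega
        · rintro (rfl | ⟨h3, h4⟩)
          · exact ⟨hmodl, by omega⟩
          · exact ⟨h3.trans hmodl, by omega⟩
      rw [hset, Finset.card_insert_of_notMem (by simp)]
    have hl' : l ∈ S := by
      rw [hS, Finset.mem_filter]
      exact ⟨mem_univ _, by omega⟩
    have := hmin l hl'
    omega
  intro a b hab
  by_cases ha : a = j
  · by_cases hb : b = j
    · rw [ha, hb]
    · exfalso
      rw [ha, dn_self, dn_ne _ _ hb] at hab
      exact hno b hb hab.symm
  · by_cases hb : b = j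
    · exfalso
      rw [hb, dn_self, dn_ne _ _ ha] at hab
      exact hno a ha hab
    · rw [dn_ne _ _ ha, dn_ne _ _ hb] at hab
      exact hβ hab

/-- **Removing all `p`-hooks.** -/
theorem FM_hooks {p : ℕ} (hp : 0 < p) (w : ℕ) {β : Fin m → ℕ} (hβ : Function.Injective β)
    (h : ∑ j, β j / p = w + npairs p β) :
    ∃ f : ℕ, 0 < f ∧ ∀ s : Multiset ℕ,
      FM (Multiset.replicate w p + s) β = f * FM s (core p β) := by
  induction w generalizing β with
  | zero =>
    refine ⟨1, one_pos, fun s => ?_⟩
    rw [core_eq_self hp hβ (by simpa using h)]
    simp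
  | succ w ih =>
    have key : ∀ j : Fin m, ∃ f : ℕ, ((p ≤ β j ∧ Function.Injective (dn β j p)) → 0 < f) ∧
        ∀ s : Multiset ℕ, (if p ≤ β j then FM (Multiset.replicate w p + s) (dn β j p) else 0) =
          f * FM s (core p β) := by
      intro j
      by_cases hj : p ≤ β j
      · by_cases hinj : Function.Injective (dn β j p)
        · have h1 := sum_div_dn hp β j (c := 1) (by simpa using hj)
          rw [mul_one] at h1
          obtain ⟨f, hf, hf'⟩ := ih hinj (by
            rw [npairs_of_mod (dn_mod (dvd_refl p) β j hj)]; omega)
          refine ⟨f, fun _ => hf, fun s => ?_⟩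
          rw [if_pos hj, hf' s, core_dn hp hβ hj hinj]
        · refine ⟨0, fun h' => absurd h'.2 hinj, fun s => ?_⟩
          rw [if_pos hj, (FM_alt _).eq_zero_of_not_injective two_torsion_int hinj]
          simp
      · refine ⟨0, fun h' => absurd h'.1 hj, fun s => ?_⟩
        rw [if_neg hj]; simp
    choose f hf hf' using key
    refine ⟨∑ j, f j, ?_, fun s => ?_⟩
    · obtain ⟨j, hj⟩ := exists_hook hp hβ h
      exact Finset.sum_pos' (fun _ _ => Nat.zero_le _) ⟨j, mem_univ _, hf j hj⟩
    · rw [Multiset.replicate_succ, Multiset.cons_add, FM_cons, Finset.sum_congr rfl (fun j _ => hf' j s),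
        ← Finset.sum_mul]
      push_cast
      rfl

end Cfsg.Agent.H614
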