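import Cfsg.Agent.H614.Rank
import Cfsg.Agent.H614.Hook
import Cfsg.Agent.H614.CycGrp
import Cfsg.Agent.S0906
import Cfsg.Agent.S0908
import Cfsg.Agent.S0912
import Cfsg.Agent.S0917
import Cfsg.Agent.S0923
import Cfsg.Agent.S0928
import Cfsg.Agent.S0959
import Cfsg.Agent.Lib.Cores
import Cfsg.Prelude.Def_CaseTheorems

/-!
# Defect groups of blocks of symmetric groups

* `exists_inducing` : a character of the block `B` not vanishing at the `p`-element `x` gives a block
  of `C_G(x)` inducing `B`;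
* `pow_le_of_defect` : a defect group of a block of weight `w ≥ 1` of a symmetric group contains an
  elementary abelian subgroup of order at least `p ^ w`;
* `defect_eq_bot` : defect groups of blocks of weight zero are trivial.
-/

set_option autoImplicit false
set_option linter.unusedSectionVars false

namespace Cfsg.Agent.H614

open Finset Cfsg Cfsg.Agent.Characters.Core

universe u

section General

variable {G : Type u} [Group G] [Finite G] {p : ℕ} [Fact p.Prime] {M : Ideal AlgInt}

/-- A character of the block `B` not vanishing at the `p`-element `x` gives a block of `C_G(x)`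
inducing `B`. -/
theorem exists_inducing (hM : IsPModular p M) {x : G} (hx : ∃ k : ℕ, orderOf x = p ^ k)
    {B : Set (IrrCharacter G)} (hB : IsPBlock M B) {χ : IrrCharacter G} (hχ : χ ∈ B)
    (hne : (χ : G → ℂ) x ≠ 0) :
    ∃ b : Set (IrrCharacter (Subgroup.centralizer ({x} : Set G))),
      IsInducedBlock M (Subgroup.centralizer ({x} : Set G)) b B := by
  classical
  have hMp : M.IsPrime := hM.2.1.isPrime
  by_contra hno
  push Not at hno
  let C := Subgroup.centralizer ({x} : Set G)
  let θ : C → ℂ := fun c => (χ : G → ℂ) (x * (c : G))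
  have hθ : IsClassFunction C θ := by
    intro g k
    show (χ : G → ℂ) (x * ((k * g * k⁻¹ : C) : G)) = (χ : G → ℂ) (x * (g : G))
    have hk : x * (k : G) = k * x := (Subgroup.mem_centralizer_iff.1 k.2 x rfl)
    have e : x * ((k * g * k⁻¹ : C) : G) = (k : G) * (x * (g : G)) * (k : G)⁻¹ := by
      rw [Subgroup.coe_mul, Subgroup.coe_mul, Subgroup.coe_inv]
      simp only [← mul_assoc, hk]
    rw [e]
    exact isIrr_isClassFunction χ.2 _ _
  have : Finite (IrrCharacter C) := finite_irr
  let _ : Fintype (IrrCharacter C) := Fintype.ofFinite _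
  let _ : Fintype C := Fintype.ofFinite C
  apply hne
  have h1 : θ 1 = ∑ ψ : IrrCharacter C, classInner θ (ψ : C → ℂ) * (ψ : C → ℂ) 1 := by
    conv_lhs => rw [classFunction_eq_sum hθ]
    rw [Finset.sum_apply]
    rfl
  have h2 : θ 1 = (χ : G → ℂ) x := by
    show (χ : G → ℂ) (x * ((1 : C) : G)) = _
    rw [Subgroup.coe_one, mul_one]
  rw [← h2, h1, ← Finset.sum_fiberwise_of_maps_to
    (g := fun ψ : IrrCharacter C => blockOf M (ψ : C → ℂ))
    (t := Finset.univ.image (fun ψ : IrrCharacter C => blockOf M (ψ : C → ℂ)))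
    (fun ψ _ => Finset.mem_image_of_mem _ (Finset.mem_univ ψ))]
  refine Finset.sum_eq_zero fun b hb => ?_
  obtain ⟨ψ₀, -, rfl⟩ := Finset.mem_image.mp hb
  have h3 := S0923.result p M hM x hx B hB χ hχ (blockOf M (ψ₀ : C → ℂ)) ⟨ψ₀, rfl⟩
    (hno _) 1 (by rw [orderOf_one]; exact (Fact.out : p.Prime).one_lt.ne' ∘ Nat.dvd_one.mp)
  have h4 : ∑ᶠ ψ ∈ blockOf M (ψ₀ : C → ℂ), classInner θ (ψ : C → ℂ) * (ψ : C → ℂ) 1 = 0 := h3
  rw [finsum_mem_eq_toFinset_sum] at h4
  rw [← h4]
  refine Finset.sum_congr ?_ fun _ _ => rfl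
  ext ψ
  simp only [Finset.mem_filter, Finset.mem_univ, true_and, Set.mem_toFinset]
  rw [Blocks.Basic.blockOf_eq_iff, Blocks.Basic.mem_blockOf]
  exact ⟨Blocks.Basic.sameBlock_symm, Blocks.Basic.sameBlock_symm⟩

/-- If a character of `B` does not vanish at the `p`-element `x`, then every normal `p`-subgroup of
`C_G(x)` is contained in a defect group of `B`. -/
theorem le_defect_of_normal (hM : IsPModular p M) {x : G} (hx : ∃ k : ℕ, orderOf x = p ^ k)
    {B : Set (IrrCharacter G)} (hB : IsPBlock M B) {χ : IrrCharacter G} (hχ : χ ∈ B)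
    (hne : (χ : G → ℂ) x ≠ 0) {P : Subgroup G} (hP : IsPGroup p P)
    (hPC : P ≤ Subgroup.centralizer ({x} : Set G))
    (hn : (P.subgroupOf (Subgroup.centralizer ({x} : Set G))).Normal) {D : Subgroup G}
    (hD : IsDefectGroup p M B D) :
    ∃ g : G, P.map (MulAut.conj g).toMonoidHom ≤ D := by
  classical
  obtain ⟨b, hind⟩ := exists_inducing hM hx hB hχ hne
  obtain ⟨k, hk⟩ := S0906.result p M hM b hind.1
  obtain ⟨S⟩ : Nonempty (Sylow p (Subgroup.centralizer ({k} : Set (Subgroup.centralizer ({x} : Set G))))) :=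
    inferInstance
  have hR : IsDefectGroup p M b ((S : Subgroup _).map
    (Subgroup.centralizer ({k} : Set (Subgroup.centralizer ({x} : Set G)))).subtype) := ⟨k, hk, S, rfl⟩
  have h1 := S0912.result p M hM b hind.1 _ hR
  have h2 : P.subgroupOf (Subgroup.centralizer ({x} : Set G)) ≤
      pCore p (Subgroup.centralizer ({x} : Set G)) :=
    Cfsg.Agent.Lib.Cores.le_pCore hn hP.comap_subtype
  obtain ⟨E, hE, hRE⟩ := S0917.result p M hM _ b hind.1 B hB hind _ hR
  have h3 : P ≤ E := by
    refine le_trans ?_ hRE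
    have h4 := Subgroup.map_mono (f := (Subgroup.centralizer ({x} : Set G)).subtype) (h2.trans h1)
    rwa [Subgroup.subgroupOf_map_subtype, inf_eq_left.2 hPC] at h4
  have h5 := (S0959.result p M hM B hB E hE P hP).2 ⟨1, by rw [Blocks.Basic.map_conj_one]; exact h3⟩
  exact (S0959.result p M hM B hB D hD P hP).1 h5

/-- The order of an elementary abelian subgroup is bounded by the sectional rank. -/
theorem card_le_of_sectional {H : Type u} [Group H] [Finite H] {s : ℕ}
    (hs : SectionalPRankLE p s H) {E : Subgroup H} (hc : ∀ a ∈ E, ∀ b ∈ E, a * b = b * a)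
    (he : ∀ a ∈ E, a ^ p = 1) : Nat.card E ≤ p ^ s := by
  have h1 := hs E ⊥ ⊤ ⟨⟨?_⟩⟩ ?_
  · have h2 : Nat.card (⊤ : Subgroup (E ⧸ (⊥ : Subgroup E))) = Nat.card E := by
      rw [Subgroup.card_top]
      exact Nat.card_congr (QuotientGroup.quotientBot).toEquiv
    rwa [h2] at h1
  · rintro ⟨a, -⟩ ⟨b, -⟩
    apply Subtype.ext
    show a * b = b * a
    induction a using QuotientGroup.induction_on with
    | H a =>
      induction b using QuotientGroup.induction_on with
      | H b =>
        rw [← QuotientGroup.mk_mul, ← QuotientGroup.mk_mul]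
        congr 1
        exact Subtype.ext (hc _ a.2 _ b.2)
  · intro a _
    induction a using QuotientGroup.induction_on with
    | H a =>
      rw [← QuotientGroup.mk_pow]
      have : a ^ p = 1 := Subtype.ext (he _ a.2)
      rw [this]; rfl

end General

section Sym

variable {α : Type u} [Fintype α] [DecidableEq α] {m : ℕ} {p : ℕ} [hp : Fact p.Prime]
  {M : Ideal AlgInt}

theorem FM_ones_ne_zero {n : ℕ} {c : Fin m → ℕ} (hc : Function.Injective c)
    (hs : ∑ i, c i = n + ∑ i : Fin m, (i : ℕ)) : FM (Multiset.replicate n 1) c ≠ 0 := by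
  set σ := Tuple.sort c with hσ
  have hmono : Monotone (c ∘ σ) := Tuple.monotone_sort c
  have hst : StrictMono (c ∘ σ) := hmono.strictMono_of_injective (hc.comp σ.injective)
  have h1 := FM_ones_pos n hst (by rw [← hs]; exact Equiv.sum_comp σ c)
  intro h0
  rw [FM_alt, h0] at h1
  simp at h1

theorem exists_cycleType {w : ℕ} (h : p * w ≤ Fintype.card α) :
    ∃ z : Equiv.Perm α, z.cycleType = Multiset.replicate w p := by
  rw [Equiv.Perm.exists_with_cycleType_iff]
  refine ⟨by simpa [mul_comm] using h, fun a ha => ?_⟩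
  rw [Multiset.eq_of_mem_replicate ha]
  exact hp.out.two_le

theorem pow_eq_one_of_cycleType {z : Equiv.Perm α} {w : ℕ}
    (hz : z.cycleType = Multiset.replicate w p) : z ^ p = 1 := by
  rw [← orderOf_dvd_iff_pow_eq_one, ← Equiv.Perm.lcm_cycleType, hz, Multiset.lcm_dvd]
  intro b hb
  rw [Multiset.eq_of_mem_replicate hb]

/-- The character value at an element with `w` cycles of length `p`. -/
theorem ch_ne_zero {β : Fin m → ℕ} (hβ : StrictMono β)
    (hs : ∑ i, β i = Fintype.card α + ∑ i : Fin m, (i : ℕ)) {w : ℕ}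
    (hw : ∑ j, β j / p = w + npairs p β) :
    p * w ≤ Fintype.card α ∧ ∀ z : Equiv.Perm α, z.cycleType = Multiset.replicate w p →
      ch α β z ≠ 0 := by
  have h1 := sum_core hβ.injective hw
  have h2 := core_injective hp.out.pos hβ.injective
  have h3 := sum_le_of_injective h2
  have h4 : p * w ≤ Fintype.card α := by omega
  refine ⟨h4, fun z hz => ?_⟩
  obtain ⟨f, hf, hf'⟩ := FM_hooks hp.out.pos w hβ.injective hw
  rw [ch_apply, ty_eq, hz, hf']
  have h5 : FM (Multiset.replicate (Fintype.card α - (Multiset.replicate w p).sum) 1) (core p β) ≠ 0 := by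
    apply FM_ones_ne_zero h2
    rw [Multiset.sum_replicate, smul_eq_mul, mul_comm w p]
    omega
  rw [Int.cast_ne_zero]
  exact mul_ne_zero (by exact_mod_cast hf.ne') h5

/-- A defect group of a block of weight `w` of a symmetric group has sectional rank at least `w`. -/
theorem pow_le_of_defect (hM : IsPModular p M)
    {B : Set (IrrCharacter (Equiv.Perm α))} (hB : IsPBlock M B) {β : Fin m → ℕ} (hβ : StrictMono β)
    (hs : ∑ i, β i = Fintype.card α + ∑ i : Fin m, (i : ℕ)) {χ : IrrCharacter (Equiv.Perm α)}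
    (hχ : χ ∈ B) (hχβ : (χ : Equiv.Perm α → ℂ) = ch α β) {w : ℕ}
    (hw : ∑ j, β j / p = w + npairs p β) {D : Subgroup (Equiv.Perm α)}
    (hD : IsDefectGroup p M B D) {s : ℕ} (hrank : SectionalPRankLE p s D) : p ^ w ≤ p ^ s := by
  obtain ⟨h1, h2⟩ := ch_ne_zero (α := α) hβ hs hw
  obtain ⟨z, hz⟩ := exists_cycleType (α := α) h1
  have hzp := pow_eq_one_of_cycleType hz
  have hP : IsPGroup p (cyc z) := by
    intro g
    refine ⟨1, ?_⟩
    rw [pow_one]
    exact Subtype.ext (cyc_pow hzp g.2)
  have hn : ((cyc z).subgroupOf (Subgroup.centralizer ({z} : Set (Equiv.Perm α)))).Normal := by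
    constructor
    intro g hg h
    rw [Subgroup.mem_subgroupOf] at hg ⊢
    exact conj_mem_cyc (Subgroup.mem_centralizer_singleton_iff.mp h.2) hg
  have hx : ∃ k : ℕ, orderOf z = p ^ k := by
    have h3 := orderOf_dvd_of_pow_eq_one hzp
    rcases (Nat.dvd_prime hp.out).mp h3 with h | h
    · exact ⟨0, by simpa using h⟩
    · exact ⟨1, by simpa using h⟩
  obtain ⟨g, hg⟩ := le_defect_of_normal hM hx hB hχ (by rw [hχβ]; exact h2 z hz) hP
    (cyc_le_centralizer z) hn hD
  refine (pow_le_card_cyc hz).trans ?_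
  have h3 : Nat.card (cyc z) = Nat.card (((cyc z).map (MulAut.conj g).toMonoidHom).subgroupOf D) := by
    rw [Nat.card_congr (Subgroup.subgroupOfEquivOfLe hg).toEquiv]
    exact Nat.card_congr ((cyc z).equivMapOfInjective _ (MulAut.conj g).injective).toEquiv
  rw [h3]
  apply card_le_of_sectional hrank
  · intro a ha b hb
    obtain ⟨a₀, ha₀, ha'⟩ := ha
    obtain ⟨b₀, hb₀, hb'⟩ := hb
    apply Subtype.ext
    show (a : Equiv.Perm α) * b = b * a
    rw [Subgroup.coe_subtype] at ha' hb'
    rw [← ha', ← hb', ← map_mul, ← map_mul, cyc_comm ha₀ hb₀]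
  · intro a ha
    obtain ⟨a₀, ha₀, ha'⟩ := ha
    apply Subtype.ext
    show (a : Equiv.Perm α) ^ p = 1
    rw [Subgroup.coe_subtype] at ha'
    rw [← ha', ← map_pow, cyc_pow hzp ha₀, map_one]

/-- Defect groups of blocks of weight zero are trivial. -/
theorem defect_eq_bot (hM : IsPModular p M) (hm : Fintype.card α ≤ m)
    {B : Set (IrrCharacter (Equiv.Perm α))} (hB : IsPBlock M B) {β : Fin m → ℕ} (hβ : StrictMono β)
    (hs : ∑ i, β i = Fintype.card α + ∑ i : Fin m, (i : ℕ)) {χ : IrrCharacter (Equiv.Perm α)}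
    (hχ : χ ∈ B) (hχβ : (χ : Equiv.Perm α → ℂ) = ch α β) (hw : ∑ j, β j / p = npairs p β)
    {D : Subgroup (Equiv.Perm α)} (hD : IsDefectGroup p M B D) : D = ⊥ := by
  have hMp : M.IsPrime := hM.2.1.isPrime
  have h1 : ∀ ψ ∈ B, (charDegree (ψ : Equiv.Perm α → ℂ)).factorization p =
      (Nat.card (Equiv.Perm α)).factorization p := by
    intro ψ hψ
    have h2 : SameBlock M (ch α β) (ψ : Equiv.Perm α → ℂ) := by
      rw [← hχβ]; exact Blocks.Basic.isPBlock_sameBlock hB hχ hψ
    obtain ⟨γ, hγ, hsγ, hψγ, hc⟩ := mem_blockOf hM hm hβ hs h2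
    have h3 := weight_of_sameCol (w := 0) hp.out.pos hc (hs.trans hsγ.symm) (by rw [hw, zero_add])
    apply S0928.result p ψ
    intro g hg
    rw [hψγ, ch_apply]
    have h4 : ¬ Ep p (ty g) = 0 := by
      rw [← pRegular_iff hp.out g, hg, not_not]
    rw [Ep_eq_zero_iff (ty_pos g)] at h4
    push Not at h4
    obtain ⟨r, hr, hpr⟩ := h4
    rw [FM_eq_zero_of_weight_zero hp.out.pos (by simpa using h3) hr (ty_pos g r hr) hpr]
    simp
  have h2 : blockDefect p B = 0 := by
    unfold blockDefect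
    have h3 : ((fun χ : IrrCharacter (Equiv.Perm α) => (charDegree (χ : Equiv.Perm α → ℂ)).factorization p) '' B)
        = {(Nat.card (Equiv.Perm α)).factorization p} := by
      ext k
      simp only [Set.mem_image, Set.mem_singleton_iff]
      constructor
      · rintro ⟨ψ, hψ, rfl⟩
        exact h1 ψ hψ
      · rintro rfl
        exact ⟨χ, hχ, h1 χ hχ⟩
    rw [h3, csInf_singleton, Nat.sub_self]
  have h3 := S0908.result p M hM B hB D hD
  rw [h2, pow_zero] at h3
  exact Subgroup.card_eq_one.mp h3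

/-- **The rank of a block of a symmetric group is less than `p ^ s`** if `s` bounds the sectional
`p`-rank of a nontrivial defect group. -/
theorem blockRank_lt (hM : IsPModular p M) {B : Set (IrrCharacter (Equiv.Perm α))}
    (hB : IsPBlock M B) {D : Subgroup (Equiv.Perm α)} (hD : IsDefectGroup p M B D) (hD1 : D ≠ ⊥)
    {s : ℕ} (hrank : SectionalPRankLE p s D) : blockRank p B < p ^ s := by
  have hMp : M.IsPrime := hM.2.1.isPrime
  obtain ⟨χ, hχ⟩ := Blocks.Basic.isPBlock_nonempty hB
  obtain ⟨β, hβ, hs, hχβ⟩ := irr_eq (m := Fintype.card α) le_rfl χ.2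
  obtain ⟨w, hw⟩ : ∃ w, ∑ j, β j / p = w + npairs p β :=
    ⟨_, (Nat.sub_add_cancel (npairs_le hp.out.pos hβ.injective)).symm⟩
  have h1 : blockRank p B ≤ bb p w := by
    apply blockRank_le hM le_rfl hβ hs hw
    intro ψ hψ
    rw [← hχβ]; exact Blocks.Basic.isPBlock_sameBlock hB hχ hψ
  rcases Nat.eq_zero_or_pos w with rfl | hw0
  · exact absurd (defect_eq_bot hM le_rfl hB hβ hs hχ hχβ (by simpa using hw) hD) hD1
  · have h2 := pow_le_of_defect hM hB hβ hs hχ hχβ hw hD hrank
    refine lt_of_lt_of_le (lt_of_le_of_lt h1 ?_) h2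
    obtain ⟨v, rfl⟩ : ∃ v, w = v + 1 := ⟨w - 1, by omega⟩
    simp only [bb]
    rw [pow_succ, mul_comm]
    exact Nat.mul_lt_mul_of_pos_left (Nat.sub_lt hp.out.pos one_pos) (pow_pos hp.out.pos v)

end Sym

end Cfsg.Agent.H614
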