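import Cfsg.Agent.CharactersDeep.MackeyLinear
import Cfsg.Agent.CharactersDeep.NormalInd
import Cfsg.Prelude.Def_Blocks
import Mathlib.GroupTheory.Transfer

/-!
# Irreducible characters of degree `p` of `p`-groups

`exists_degree_p`: a criterion via the transfer.
-/

set_option autoImplicit false
set_option linter.unusedSectionVars false

namespace Cfsg.Agent.H614

open Cfsg Subgroup

section Transfer

variable {G A : Type*} [Group G] [CommGroup A] {H : Subgroup G}

theorem transfer_core_one [H.FiniteIndex] (ϕ : H →* A) (e : G) (he : ∀ g : G, g⁻¹ * e * g ∈ H)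
    (h : ∀ g : G, ϕ ⟨g⁻¹ * e * g, he g⟩ = 1) : MonoidHom.transfer ϕ e = 1 := by
  have hfix : ∀ q : G ⧸ H, e⁻¹ • q = q := by
    intro q
    induction q using QuotientGroup.induction_on with
    | H g =>
      rw [MulAction.Quotient.smul_mk, QuotientGroup.eq, smul_eq_mul]
      have := he g
      simpa [mul_assoc] using this
  let T : H.LeftTransversal := default
  rw [MonoidHom.transfer_def ϕ T e]
  unfold Subgroup.leftTransversals.diff
  refine Finset.prod_eq_one fun q _ => ?_
  have h1 : ((e • T).2.leftQuotientEquiv q : G) = e * (T.2.leftQuotientEquiv q : G) := by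
    rw [smul_apply_eq_smul_apply_inv_smul, hfix]
    rfl
  rw [← h (T.2.leftQuotientEquiv q : G)]
  congr 1
  apply Subtype.ext
  show (T.2.leftQuotientEquiv q : G)⁻¹ * ((e • T).2.leftQuotientEquiv q : G) = _
  rw [h1]
  exact (mul_assoc _ _ _).symm

theorem transfer_core_single [H.FiniteIndex] (ϕ : H →* A) (e : G) (he : ∀ g : G, g⁻¹ * e * g ∈ H)
    (h : ∀ g : G, g ∉ H → ϕ ⟨g⁻¹ * e * g, he g⟩ = 1) (he1 : e ∈ H) :
    MonoidHom.transfer ϕ e = ϕ ⟨e, he1⟩ := by
  classical
  have hfix : ∀ q : G ⧸ H, e⁻¹ • q = q := by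
    intro q
    induction q using QuotientGroup.induction_on with
    | H g =>
      rw [MulAction.Quotient.smul_mk, QuotientGroup.eq, smul_eq_mul]
      have := he g
      simpa [mul_assoc] using this
  let T : H.LeftTransversal := default
  rw [MonoidHom.transfer_def ϕ T e]
  unfold Subgroup.leftTransversals.diff
  have h1 : ∀ q : G ⧸ H, ((e • T).2.leftQuotientEquiv q : G) = e * (T.2.leftQuotientEquiv q : G) := by
    intro q
    rw [smul_apply_eq_smul_apply_inv_smul, hfix]
    rfl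
  have hval : ∀ q : G ⧸ H, ∀ hq, ϕ ⟨(T.2.leftQuotientEquiv q : G)⁻¹ *
      ((e • T).2.leftQuotientEquiv q : G), hq⟩ =
      ϕ ⟨(T.2.leftQuotientEquiv q : G)⁻¹ * e * (T.2.leftQuotientEquiv q : G), he _⟩ := by
    intro q hq
    congr 1
    apply Subtype.ext
    show (T.2.leftQuotientEquiv q : G)⁻¹ * ((e • T).2.leftQuotientEquiv q : G) = _
    rw [h1]
    exact (mul_assoc _ _ _).symm
  have hmk : ∀ q : G ⧸ H, ((T.2.leftQuotientEquiv q : G) : G ⧸ H) = q := fun q =>
    T.2.quotientGroupMk_leftQuotientEquiv q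
  rw [Finset.prod_eq_single ((1 : G) : G ⧸ H)]
  · rw [hval]
    have h2 : (T.2.leftQuotientEquiv ((1 : G) : G ⧸ H) : G) ∈ H := by
      have h3 := hmk ((1 : G) : G ⧸ H)
      rw [QuotientGroup.eq, mul_one, inv_mem_iff] at h3
      exact h3
    have h4 : (⟨(T.2.leftQuotientEquiv ((1 : G) : G ⧸ H) : G)⁻¹ * e *
        (T.2.leftQuotientEquiv ((1 : G) : G ⧸ H) : G), he _⟩ : H) =
        (⟨_, h2⟩ : H)⁻¹ * ⟨e, he1⟩ * ⟨_, h2⟩ := rfl
    rw [h4, map_mul, map_mul, map_inv, mul_comm, mul_inv_cancel_left]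
  · intro q _ hq
    rw [hval]
    apply h
    intro h2
    apply hq
    rw [← hmk q, QuotientGroup.eq, mul_one, inv_mem_iff]
    exact h2
  · intro h2
    exact absurd (@Finset.mem_univ _ (H.fintypeQuotientOfFiniteIndex) _) h2

end Transfer

section Main

universe u

variable {G : Type u} [Group G] [Finite G] {p : ℕ} [hp : Fact p.Prime]

/-- **A `p`-group with an irreducible character of degree `p`**. -/
theorem exists_degree_p (hG : IsPGroup p G) {H : Subgroup G} (hH : H ≠ ⊤) (ϕ : H →* ℂˣ) (e : G)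
    (he : ∀ g : G, g⁻¹ * e * g ∈ H) (he1 : e ∈ H) (h1 : ϕ ⟨e, he1⟩ ≠ 1)
    (h2 : ∀ g : G, g ∉ H → ϕ ⟨g⁻¹ * e * g, he g⟩ = 1) :
    ∃ φ : IrrCharacter G, charDegree (φ : G → ℂ) = p := by
  classical
  have : Fintype G := Fintype.ofFinite G
  obtain ⟨k, hk⟩ := IsPGroup.iff_card.mp hG
  obtain ⟨l, hl⟩ := IsPGroup.iff_card.mp (hG.to_subgroup H)
  have hlk : l < k := by
    have h3 : Nat.card H < Nat.card G := by
      refine lt_of_le_of_ne (Nat.le_of_dvd Nat.card_pos (Subgroup.card_subgroup_dvd_card H)) ?_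
      intro h
      exact hH (Subgroup.eq_top_of_card_eq H h)
    rw [hk, hl] at h3
    exact (Nat.pow_lt_pow_iff_right hp.out.one_lt).mp h3
  obtain ⟨k', rfl⟩ : ∃ k', k = k' + 1 := ⟨k - 1, by omega⟩
  obtain ⟨M, hM, hHM⟩ := Sylow.exists_subgroup_card_pow_prime_le p
    (by rw [hk]; exact pow_dvd_pow p (Nat.le_succ k')) H hl (by omega : l ≤ k')
  have hMi : M.index = p := by
    have h3 := Subgroup.card_mul_index M
    rw [hM, hk, pow_succ] at h3
    exact Nat.eq_of_mul_eq_mul_left (pow_pos hp.out.pos k') h3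
  have hMn : M.Normal := by
    apply Subgroup.normal_of_index_eq_minFac_card
    rw [hMi, hk, Nat.pow_minFac (Nat.succ_ne_zero k')]
    exact hp.out.minFac_eq.symm
  have hMe : e ∈ M := hHM he1
  -- the transfer
  let ϕ' : H.subgroupOf M →* ℂˣ := ϕ.comp (Subgroup.subgroupOfEquivOfLe hHM).toMonoidHom
  let μ : M →* ℂˣ := MonoidHom.transfer ϕ'
  have hind : IsIrrCharacter G (indFun M (fun t => (μ t : ℂ))) := by
    apply Cfsg.Agent.CharactersDeep.MackeyLinear.isIrrCharacter_indFun
    intro x hx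
    refine ⟨⟨e, hMe⟩, by simpa using hMn.conj_mem e hMe x⁻¹, ?_⟩
    have h3 : μ ⟨e, hMe⟩ = ϕ ⟨e, he1⟩ := by
      refine transfer_core_single ϕ' ⟨e, hMe⟩ (fun g => ?_) (fun g hg => ?_) ?_
      · rw [Subgroup.mem_subgroupOf]
        exact he g
      · rw [Subgroup.mem_subgroupOf] at hg
        exact h2 g hg
      · rw [Subgroup.mem_subgroupOf]
        exact he1
    have h4 : ∀ hx' : x⁻¹ * e * x ∈ M, μ ⟨x⁻¹ * e * x, hx'⟩ = 1 := by
      intro hx'
      refine transfer_core_one ϕ' ⟨x⁻¹ * e * x, hx'⟩ (fun g => ?_) (fun g => ?_)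
      · rw [Subgroup.mem_subgroupOf]
        have := he (x * g)
        simpa [mul_assoc] using this
      · have hxg : x * (g : G) ∉ H := by
          intro h
          apply hx
          have := M.mul_mem (hHM h) (M.inv_mem g.2)
          simpa [mul_assoc] using this
        rw [← h2 _ hxg]
        show ϕ _ = ϕ _
        congr 1
        apply Subtype.ext
        show (g : G)⁻¹ * (x⁻¹ * e * x) * g = (x * g)⁻¹ * e * (x * g)
        rw [mul_inv_rev]
        simp only [mul_assoc]
    rw [h3, h4]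
    exact h1
  refine ⟨⟨_, hind⟩, ?_⟩
  have h3 : indFun M (fun t => (μ t : ℂ)) 1 = (p : ℂ) := by
    rw [Cfsg.Agent.CharactersDeep.NormalInd.indFun_one, hMi, map_one, Units.val_one, mul_one]
  unfold charDegree
  show ⌊(indFun M (fun t => (μ t : ℂ)) 1).re⌋₊ = p
  rw [h3, Complex.natCast_re, Nat.floor_natCast]

end Main

end Cfsg.Agent.H614
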