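import Cfsg.Agent.H614.Alt

/-!
# The energy identity

For an alternating function `Φ` of the tuple and a modulus `q > 0`,
`∑_j ∑_{r ≥ 1, q r ≤ β_j} ∑_{k : β_k ≡ β_j mod q} Φ (β - q r e_j + q r e_k)`
is `(∑_j ⌊β_j / q⌋ - #{j < k : β_j ≡ β_k mod q}) Φ β`.
-/

set_option autoImplicit false

namespace Cfsg.Agent.H614

open Finset

variable {m : ℕ} {W : Type*} [AddCommGroup W] {Φ : (Fin m → ℕ) → W}

/-- Moving `q r` from `j` to `k` for all possible `r ≥ 1`. -/
def moveSum (Φ : (Fin m → ℕ) → W) (q : ℕ) (β : Fin m → ℕ) (j k : Fin m) : W :=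
  ∑ r ∈ range (β j / q), Φ (up (dn β j (q * (r + 1))) k (q * (r + 1)))

theorem moveSum_self (q : ℕ) (β : Fin m → ℕ) (j : Fin m) :
    moveSum Φ q β j j = (β j / q) • Φ β := by
  unfold moveSum
  rw [Finset.sum_congr rfl (g := fun _ => Φ β), Finset.sum_const, card_range]
  intro r hr
  rw [up_dn_self]
  have h1 := Finset.mem_range.mp hr
  calc q * (r + 1) ≤ q * (β j / q) := Nat.mul_le_mul_left _ h1
    _ ≤ β j := Nat.mul_div_le _ _

theorem moveSum_add (h2 : ∀ w : W, w + w = 0 → w = 0) (hΦ : Alt Φ) {q : ℕ}
    (β : Fin m → ℕ) {j k : Fin m} (hjk : j ≠ k) (hres : β j % q = β k % q) :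
    moveSum Φ q β j k + moveSum Φ q β k j = - Φ β := by
  obtain ⟨a, ha⟩ : ∃ a, a = β j / q := ⟨_, rfl⟩
  obtain ⟨b, hb⟩ : ∃ b, b = β k / q := ⟨_, rfl⟩
  obtain ⟨c, hc⟩ : ∃ c, c = β j % q := ⟨_, rfl⟩
  have hβj : β j = q * a + c := by rw [ha, hc]; exact (Nat.div_add_mod _ _).symm
  have hβk : β k = q * b + c := by rw [hb, hc, hres]; exact (Nat.div_add_mod _ _).symm
  set Ψ : ℕ → W := fun x =>
    Φ (Function.update (Function.update β j (q * x + c)) k (q * (a + b - x) + c)) with hΨ
  have hT1 : moveSum Φ q β j k = ∑ x ∈ range a, Ψ x := by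
    rw [← Finset.sum_range_reflect]
    unfold moveSum
    rw [← ha]
    refine Finset.sum_congr rfl fun r hr => ?_
    have h1 := Finset.mem_range.mp hr
    simp only [hΨ]
    congr 1
    unfold up dn
    rw [Function.update_of_ne (Ne.symm hjk)]
    congr 1
    · congr 1
      rw [hβj]
      have : a = (a - 1 - r) + (r + 1) := by omega
      generalize a - 1 - r = y at this ⊢
      rw [this]
      have : q * (y + (r + 1)) = q * y + q * (r + 1) := by ring
      omega
    · rw [hβk]
      have : a + b - (a - 1 - r) = b + (r + 1) := by omega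
      rw [this]; ring
  have hT2 : moveSum Φ q β k j = ∑ r ∈ range b, Ψ (a + 1 + r) := by
    unfold moveSum
    rw [← hb]
    refine Finset.sum_congr rfl fun r hr => ?_
    have h1 := Finset.mem_range.mp hr
    simp only [hΨ]
    congr 1
    unfold up dn
    rw [Function.update_of_ne hjk, Function.update_comm hjk]
    congr 1
    · congr 1
      rw [hβk]
      have : b = (a + b - (a + 1 + r)) + (r + 1) := by omega
      generalize a + b - (a + 1 + r) = y at this ⊢
      rw [this]
      have : q * (y + (r + 1)) = q * y + q * (r + 1) := by ring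
      omega
    · rw [hβj]; ring
  have hanti : ∀ x ∈ range (a + b + 1), Ψ (a + b + 1 - 1 - x) = - Ψ x := by
    intro x hx
    have hx' := Finset.mem_range.mp hx
    simp only [hΨ]
    rw [← hΦ.swap _ hjk]
    congr 1
    have e1 : a + b + 1 - 1 - x = a + b - x := by omega
    have e2 : a + b - (a + b - x) = x := by omega
    rw [e1, e2]
    funext l
    simp only [Function.comp_apply]
    by_cases hlj : l = j
    · subst hlj
      rw [Equiv.swap_apply_left]; simp [hjk]
    · by_cases hlk : l = k
      · subst hlk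
        rw [Equiv.swap_apply_right]; simp [hjk]
      · rw [Equiv.swap_apply_of_ne_of_ne hlj hlk]
        simp [hlj, hlk]
  have hS : ∑ x ∈ range (a + b + 1), Ψ x = 0 := by
    apply h2
    nth_rewrite 1 [← Finset.sum_range_reflect]
    rw [Finset.sum_congr rfl hanti, Finset.sum_neg_distrib]
    simp
  have hsplit : ∑ x ∈ range (a + b + 1), Ψ x =
      ∑ x ∈ range a, Ψ x + Ψ a + ∑ r ∈ range b, Ψ (a + 1 + r) := by
    rw [show a + b + 1 = (a + 1) + b by ring, Finset.sum_range_add, Finset.sum_range_succ]
  have hΨa : Ψ a = Φ β := by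
    simp only [hΨ]
    congr 1
    rw [show a + b - a = b by omega, ← hβj, ← hβk]
    simp
  rw [hT1, hT2]
  rw [hsplit, hΨa] at hS
  rw [eq_neg_iff_add_eq_zero, ← hS]
  abel

/-- The number of pairs of congruent entries of the tuple. -/
def npairs (q : ℕ) (β : Fin m → ℕ) : ℕ :=
  #{x : Fin m × Fin m | x.1 < x.2 ∧ β x.1 % q = β x.2 % q}

theorem sum_offdiag_swap (f : Fin m → Fin m → W) :
    ∑ j, ∑ k, (if j ≠ k then f j k else 0) = ∑ j, ∑ k, (if j < k then f j k + f k j else 0) := by
  have h1 : ∀ j k : Fin m, (if j ≠ k then f j k else 0) =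
      (if j < k then f j k else 0) + (if k < j then f j k else 0) := by
    intro j k
    rcases lt_trichotomy j k with h | h | h
    · simp [h, h.ne, h.not_gt]
    · simp [h]
    · simp [h, h.ne', h.not_gt]
  simp only [h1, Finset.sum_add_distrib]
  rw [Finset.sum_comm (f := fun j k => if k < j then f j k else 0), ← Finset.sum_add_distrib]
  refine Finset.sum_congr rfl fun j _ => ?_
  rw [← Finset.sum_add_distrib]
  refine Finset.sum_congr rfl fun k _ => ?_
  split_ifs <;> simp

/-- **The energy identity.** -/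
theorem energy (h2 : ∀ w : W, w + w = 0 → w = 0) (hΦ : Alt Φ) (q : ℕ)
    (β : Fin m → ℕ) :
    ∑ j, ∑ r ∈ range (β j / q), ∑ k, (if dn β j (q * (r + 1)) k % q = β j % q then
      Φ (up (dn β j (q * (r + 1))) k (q * (r + 1))) else 0) + npairs q β • Φ β =
    (∑ j, β j / q) • Φ β := by
  have h1 : ∀ j, ∑ r ∈ range (β j / q), ∑ k, (if dn β j (q * (r + 1)) k % q = β j % q then
      Φ (up (dn β j (q * (r + 1))) k (q * (r + 1))) else 0) =
      (β j / q) • Φ β + ∑ k, (if j ≠ k then (if β j % q = β k % q then moveSum Φ q β j k else 0)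
        else 0) := by
    intro j
    rw [Finset.sum_comm, ← Finset.add_sum_erase _ _ (mem_univ j),
      ← Finset.add_sum_erase univ (fun k => if j ≠ k then _ else _) (mem_univ j)]
    simp only [ne_eq, not_true_eq_false, if_false, zero_add]
    congr 1
    · rw [← moveSum_self]
      refine Finset.sum_congr rfl fun r hr => if_pos ?_
      have h1 := Finset.mem_range.mp hr
      have h3 : q * (r + 1) ≤ β j := le_trans (Nat.mul_le_mul_left _ h1) (Nat.mul_div_le _ _)
      rw [dn_self]
      have : β j = (β j - q * (r + 1)) + q * (r + 1) := by omega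
      conv_rhs => rw [this]
      simp
    · refine Finset.sum_congr rfl fun k hk => ?_
      have hjk : j ≠ k := (Finset.ne_of_mem_erase hk).symm
      rw [if_pos hjk]
      unfold moveSum
      by_cases hres : β j % q = β k % q
      · rw [if_pos hres]
        refine Finset.sum_congr rfl fun r _ => if_pos ?_
        rw [dn_ne _ _ hjk.symm, hres]
      · rw [if_neg hres]
        refine Finset.sum_eq_zero fun r _ => if_neg ?_
        rw [dn_ne _ _ hjk.symm]
        exact fun h => hres h.symm
  rw [Finset.sum_congr rfl (fun j _ => h1 j), Finset.sum_add_distrib, ← Finset.sum_smul, add_assoc]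
  conv_rhs => rw [← add_zero ((∑ j, β j / q) • Φ β)]
  congr 1
  rw [sum_offdiag_swap]
  have h4 : ∀ j k : Fin m, (if j < k then ((if β j % q = β k % q then moveSum Φ q β j k else 0) +
      (if β k % q = β j % q then moveSum Φ q β k j else 0)) else 0) =
      - (if j < k ∧ β j % q = β k % q then Φ β else 0) := by
    intro j k
    by_cases hlt : j < k
    · by_cases hres : β j % q = β k % q
      · rw [if_pos hlt, if_pos hres, if_pos hres.symm, if_pos ⟨hlt, hres⟩,
          moveSum_add h2 hΦ β hlt.ne hres]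
      · rw [if_pos hlt, if_neg hres, if_neg (fun h => hres h.symm), if_neg (fun h => hres h.2)]
        simp
    · rw [if_neg hlt, if_neg (fun h => hlt h.1)]; simp
  simp only [h4, Finset.sum_neg_distrib]
  rw [neg_add_eq_zero]
  unfold npairs
  rw [← Finset.sum_product' univ univ (fun j k => if j < k ∧ β j % q = β k % q then Φ β else 0),
    ← Finset.sum_filter, Finset.sum_const]
  rfl

theorem npairs_one (β : Fin m → ℕ) : npairs 1 β = ∑ i : Fin m, (i : ℕ) := by
  unfold npairs
  simp only [Nat.mod_one, and_true]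
  rw [Finset.card_filter, Fintype.sum_prod_type_right]
  refine Finset.sum_congr rfl fun i _ => ?_
  rw [← Finset.card_filter, show ({x : Fin m | x < i} : Finset (Fin m)) = Finset.Iio i by ext; simp]
  simp

end Cfsg.Agent.H614
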