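import Cfsg.Agent.H614.Energy
import Cfsg.Agent.H614.CycSum

/-!
# Orthogonality of Frobenius' functions

* `ortho` : `Z n (F_β F_γ) = pair β γ` for `∑ β = n + ∑ i`;
* `betaOf s` : the strictly increasing tuple of a partition with parts `s`;
* `expand` : the functions `F_{β(λ)}`, `λ ⊢ n ≤ m`, form an orthonormal basis;
* `exists_betaOf` : each strictly increasing tuple of size `n` is `betaOf λ`;
* `raise_eq` : raising, `∑_j F_{γ + r e_j} (s) = r m_r(s) F_γ (s - r)`.
-/

set_option autoImplicit false

namespace Cfsg.Agent.H614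

open Finset

variable {m : ℕ}

theorem eq_comp_of_injective {β : Fin m → ℕ} (h : Function.Injective β)
    (hs : ∑ i, β i = ∑ i : Fin m, (i : ℕ)) : ∃ σ : Equiv.Perm (Fin m), β = fun i => ((σ i : Fin m) : ℕ) := by
  have hmono : Monotone (β ∘ Tuple.sort β) := Tuple.monotone_sort β
  have hst : StrictMono (β ∘ Tuple.sort β) :=
    hmono.strictMono_of_injective (h.comp (Tuple.sort β).injective)
  have hle : ∀ i : Fin m, (i : ℕ) ≤ (β ∘ Tuple.sort β) i := by
    have : ∀ k : ℕ, ∀ hk : k < m, k ≤ (β ∘ Tuple.sort β) ⟨k, hk⟩ := by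
      intro k
      induction k with
      | zero => intro _; exact Nat.zero_le _
      | succ k ih =>
        intro hk
        have h1 := ih (by omega)
        have h2 : (β ∘ Tuple.sort β) ⟨k, by omega⟩ < (β ∘ Tuple.sort β) ⟨k + 1, hk⟩ :=
          hst (by simp [Fin.lt_def])
        omega
    exact fun i => this i i.2
  have hsum : ∑ i : Fin m, (i : ℕ) = ∑ i, (β ∘ Tuple.sort β) i := by
    rw [← hs]; exact (Equiv.sum_comp (Tuple.sort β) β).symm
  have heq := (Finset.sum_eq_sum_iff_of_le (fun i _ => hle i)).mp hsum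
  refine ⟨(Tuple.sort β)⁻¹, ?_⟩
  funext i
  have := heq ((Tuple.sort β)⁻¹ i) (mem_univ _)
  have h3 : (Tuple.sort β) ((Tuple.sort β)⁻¹ i) = i := (Tuple.sort β).apply_symm_apply i
  rw [Function.comp_apply, h3] at this
  exact this.symm

theorem vac_mul_vac {β γ : Fin m → ℕ} (hs : ∑ i, β i = ∑ i : Fin m, (i : ℕ)) :
    vac β * vac γ = pair β γ := by
  by_cases h : Function.Injective β
  · obtain ⟨σ, rfl⟩ := eq_comp_of_injective h hs
    have h1 : vac (fun i => ((σ i : Fin m) : ℕ)) = sg σ := by
      have := vac_alt σ (fun i : Fin m => (i : ℕ))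
      rw [show (fun i => ((σ i : Fin m) : ℕ)) = (fun i : Fin m => (i : ℕ)) ∘ σ from rfl, this,
        vac_eq_pair, pair_self_of_strictMono (fun i j h => h)]
      simp
    have h2 : pair (fun i => ((σ i : Fin m) : ℕ)) γ = sg σ * vac γ := by
      have := pair_alt_left γ σ (fun i : Fin m => (i : ℕ))
      simp only at this
      rw [show (fun i => ((σ i : Fin m) : ℕ)) = (fun i : Fin m => (i : ℕ)) ∘ σ from rfl, this,
        vac_eq_pair, pair_comm]
      simp
    rw [h1, h2]
  · rw [vac_alt.eq_zero_of_not_injective two_torsion_int h,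
      (pair_alt_left γ).eq_zero_of_not_injective two_torsion_int h, zero_mul]

theorem pair_eq_zero_of_sum_lt {α γ : Fin m → ℕ} (h : ∑ i, α i < ∑ i : Fin m, (i : ℕ)) :
    pair α γ = 0 := by
  have : ¬ Function.Injective α := fun h' => absurd (sum_le_of_injective h') (by omega)
  exact (pair_alt_left γ).eq_zero_of_not_injective two_torsion_int this

/-- Energy identity for the pairing. -/
theorem pair_energy (n : ℕ) {β : Fin m → ℕ} (hβ : ∑ i, β i = n + ∑ i : Fin m, (i : ℕ))
    (γ : Fin m → ℕ) :
    ∑ r ∈ Finset.Icc 1 n, ∑ j, ∑ k,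
      (if r ≤ β j then (if r ≤ γ k then pair (dn β j r) (dn γ k r) else 0) else 0) =
    n * pair β γ := by
  have hX : ∀ (j : Fin m) (r : ℕ), ∑ k, (if r ≤ γ k then pair (dn β j r) (dn γ k r) else 0) =
      ∑ k, pair (up (dn β j r) k r) γ := fun j r => pair_dn_up (dn β j r) γ r
  have h1 := energy (W := ℤ) two_torsion_int (pair_alt_left γ) 1 β
  simp only [Nat.mod_one, if_true, Nat.div_one, one_mul] at h1
  rw [npairs_one, hβ] at h1
  have h2 : ∑ r ∈ Finset.Icc 1 n, ∑ j, ∑ k,
      (if r ≤ β j then (if r ≤ γ k then pair (dn β j r) (dn γ k r) else 0) else 0) =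
      ∑ j, ∑ r ∈ range (β j), ∑ k, pair (up (dn β j (r + 1)) k (r + 1)) γ := by
    rw [Finset.sum_comm]
    refine Finset.sum_congr rfl fun j _ => ?_
    have h3 : ∀ r, ∑ k, (if r ≤ β j then (if r ≤ γ k then pair (dn β j r) (dn γ k r) else 0) else 0)
        = if r ≤ β j then ∑ k, pair (up (dn β j r) k r) γ else 0 := by
      intro r
      by_cases h : r ≤ β j
      · simp only [h, if_true]; exact hX j r
      · simp [h]
    rw [Finset.sum_congr rfl (fun r _ => h3 r), ← Finset.sum_filter]
    have h4 : ∑ r ∈ range (β j), ∑ k, pair (up (dn β j (r + 1)) k (r + 1)) γ =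
        ∑ r ∈ Finset.Icc 1 (β j), ∑ k, pair (up (dn β j r) k r) γ := by
      rw [Finset.range_eq_Ico, Finset.sum_Ico_add' (fun r => ∑ k, pair (up (dn β j r) k r) γ) 0 (β j) 1]
      rfl
    rw [h4]
    refine Finset.sum_subset ?_ ?_
    · intro r hr
      simp only [Finset.mem_filter, Finset.mem_Icc] at hr ⊢
      omega
    · intro r hr hr'
      simp only [Finset.mem_filter, Finset.mem_Icc] at hr hr'
      rw [← hX]
      refine Finset.sum_eq_zero fun k _ => ?_
      split_ifs
      · apply pair_eq_zero_of_sum_lt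
        have := sum_dn β j hr.2
        omega
      · rfl
  rw [h2]
  have h5 : (∑ i : Fin m, (i : ℕ)) • pair β γ + (n : ℤ) * pair β γ =
      (n + ∑ i : Fin m, (i : ℕ)) • pair β γ := by
    simp only [nsmul_eq_mul]; push_cast; ring
  have h6 := h1.trans h5.symm
  linarith

/-- **Orthogonality of Frobenius' functions.** -/
theorem ortho (n : ℕ) (β γ : Fin m → ℕ) (hβ : ∑ i, β i = n + ∑ i : Fin m, (i : ℕ)) :
    Z n (fun s => (FM s β : ℚ) * FM s γ) = pair β γ := by
  induction n using Nat.strong_induction_on generalizing β γ with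
  | _ n ih =>
    rcases Nat.eq_zero_or_pos n with rfl | hn
    · rw [Z_zero_eq, FM_zero, FM_zero, ← vac_mul_vac (by simpa using hβ)]
      push_cast; rfl
    · have h1 := Z_rec n (fun s => (FM s β : ℚ) * FM s γ)
      have h2 : ∀ r ∈ Finset.Icc 1 n, Z (n - r) (fun s => (FM (r ::ₘ s) β : ℚ) * FM (r ::ₘ s) γ) =
          ((∑ j, ∑ k, (if r ≤ β j then (if r ≤ γ k then pair (dn β j r) (dn γ k r) else 0) else 0)
            : ℤ) : ℚ) := by
        intro r hr
        rw [Finset.mem_Icc] at hr
        have h3 : ∀ s : Multiset ℕ, (FM (r ::ₘ s) β : ℚ) * FM (r ::ₘ s) γ =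
            ∑ j, ∑ k, (if r ≤ β j then (if r ≤ γ k then
              (FM s (dn β j r) : ℚ) * FM s (dn γ k r) else 0) else 0) := by
          intro s
          rw [FM_cons, FM_cons]
          push_cast
          rw [Finset.sum_mul_sum]
          refine Finset.sum_congr rfl fun j _ => Finset.sum_congr rfl fun k _ => ?_
          split_ifs <;> simp
        simp only [h3]
        rw [Z_finsum]
        push_cast
        refine Finset.sum_congr rfl fun j _ => ?_
        rw [Z_finsum]
        refine Finset.sum_congr rfl fun k _ => ?_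
        by_cases hj : r ≤ β j
        · by_cases hk : r ≤ γ k
          · simp only [hj, hk, if_true]
            apply ih (n - r) (by omega)
            have := sum_dn β j hj
            omega
          · simp only [hj, hk, if_true, if_false]
            simp [Z]
        · simp only [hj, if_false]
          simp [Z]
      rw [Finset.sum_congr rfl h2, ← Int.cast_sum, pair_energy n hβ] at h1
      have hn' : (n : ℚ) ≠ 0 := by exact_mod_cast hn.ne'
      push_cast at h1
      exact mul_left_cancel₀ hn' h1

theorem FM_eq_zero_of_Z (n : ℕ) {β : Fin m → ℕ} (h : ∀ s : Multiset ℕ, s.sum = n → (∀ i ∈ s, 0 < i) → FM s β = 0)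
    (hβ : ∑ i, β i = n + ∑ i : Fin m, (i : ℕ)) : ¬ StrictMono β := by
  intro hs
  have h1 := ortho n β β hβ
  rw [pair_self_of_strictMono hs, Z_congr (g := fun _ => 0)] at h1
  · simp [Z] at h1
  · intro s h2 h3
    rw [h s h2 h3]; simp

/-! ### The tuples of partitions -/

/-- A multiset padded with zeros. -/
def padM (m : ℕ) (s : Multiset ℕ) : Multiset ℕ := s + Multiset.replicate (m - s.card) 0

theorem card_padM {s : Multiset ℕ} (h : s.card ≤ m) : (padM m s).card = m := by
  simp [padM]; omega

/-- The strictly increasing tuple of a partition with parts `s`. -/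
def betaOf (m : ℕ) (s : Multiset ℕ) : Fin m → ℕ :=
  fun i => ((padM m s).sort (· ≤ ·)).getD i 0 + i

theorem betaOf_strictMono {s : Multiset ℕ} (h : s.card ≤ m) : StrictMono (betaOf m s) := by
  intro i j hij
  unfold betaOf
  have hl : ((padM m s).sort (· ≤ ·)).length = m := by
    rw [Multiset.length_sort]; exact card_padM h
  rw [List.getD_eq_getElem _ _ (by rw [hl]; exact i.2), List.getD_eq_getElem _ _ (by rw [hl]; exact j.2)]
  have h1 : ((padM m s).sort (· ≤ ·))[(i : ℕ)]'(by rw [hl]; exact i.2) ≤
      ((padM m s).sort (· ≤ ·))[(j : ℕ)]'(by rw [hl]; exact j.2) := by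
    have hsorted := Multiset.pairwise_sort (padM m s) (· ≤ ·)
    rw [List.pairwise_iff_getElem] at hsorted
    exact hsorted _ _ _ _ hij
  have h2 : (i : ℕ) < j := hij
  omega

theorem betaOf_inj {s t : Multiset ℕ} (hs : s.card ≤ m) (ht : t.card ≤ m) (hs0 : 0 ∉ s)
    (ht0 : 0 ∉ t) (h : betaOf m s = betaOf m t) : s = t := by
  have hls : ((padM m s).sort (· ≤ ·)).length = m := by
    rw [Multiset.length_sort]; exact card_padM hs
  have hlt : ((padM m t).sort (· ≤ ·)).length = m := by
    rw [Multiset.length_sort]; exact card_padM ht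
  have h1 : (padM m s).sort (· ≤ ·) = (padM m t).sort (· ≤ ·) := by
    refine List.ext_getElem (by rw [hls, hlt]) fun i h1 h2 => ?_
    have h3 := congrFun h ⟨i, by omega⟩
    unfold betaOf at h3
    simp only [add_left_inj] at h3
    rwa [List.getD_eq_getElem _ _ h1, List.getD_eq_getElem _ _ h2] at h3
  have h2 : padM m s = padM m t := by
    rw [← Multiset.sort_eq (padM m s) (· ≤ ·), h1, Multiset.sort_eq]
  have h3 : ∀ u : Multiset ℕ, 0 ∉ u → (padM m u).filter (· ≠ 0) = u := by
    intro u hu
    unfold padM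
    rw [Multiset.filter_add, Multiset.filter_eq_self.mpr, Multiset.filter_eq_nil.mpr, add_zero]
    · intro a ha; rw [Multiset.eq_of_mem_replicate ha]; simp
    · intro a ha h0; exact hu (h0 ▸ ha)
  rw [← h3 s hs0, ← h3 t ht0, h2]

theorem sum_betaOf {s : Multiset ℕ} (h : s.card ≤ m) :
    ∑ i, betaOf m s i = s.sum + ∑ i : Fin m, (i : ℕ) := by
  unfold betaOf
  rw [Finset.sum_add_distrib]
  congr 1
  have hl : ((padM m s).sort (· ≤ ·)).length = m := by
    rw [Multiset.length_sort]; exact card_padM h
  have h1 : (padM m s).sum = s.sum := by simp [padM]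
  have h2 : (padM m s).sum = ((padM m s).sort (· ≤ ·)).sum := by
    rw [← Multiset.sum_coe, Multiset.sort_eq]
  rw [← h1, h2]
  generalize (padM m s).sort (· ≤ ·) = L at *
  subst hl
  rw [← Fin.sum_univ_getElem]
  refine Finset.sum_congr rfl fun i _ => ?_
  rw [List.getD_eq_getElem _ _ i.2]

theorem card_le_of_partition {n : ℕ} (ν : n.Partition) (h : n ≤ m) : ν.parts.card ≤ m := by
  have h1 : ν.parts.card ≤ ν.parts.sum := by
    have h2 : ∀ s : Multiset ℕ, (∀ i ∈ s, 0 < i) → s.card ≤ s.sum := by
      intro s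
      induction s using Multiset.induction_on with
      | empty => simp
      | cons a s ih =>
        intro hs
        have h3 := ih (fun i hi => hs i (Multiset.mem_cons_of_mem hi))
        have h4 := hs a (Multiset.mem_cons_self _ _)
        simp only [Multiset.card_cons, Multiset.sum_cons]
        omega
    exact h2 _ fun i hi => ν.parts_pos hi
  rw [ν.parts_sum] at h1
  omega

end Cfsg.Agent.H614
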