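import Cfsg.Agent.H614.Val
import Cfsg.Agent.H614.Defect

/-!
# Explicit tuples with a given height

Starting from a core tuple, raising the highest entries of some runners.
-/

set_option autoImplicit false
set_option linter.unusedSectionVars false

namespace Cfsg.Agent.H614

open Finset

variable {m : ℕ} {p : ℕ} [hp : Fact p.Prime]

/-- The double of the part of the valuation of the degree depending on the tuple. -/
def TT (p : ℕ) (β : Fin m → ℕ) : ℤ :=
  2 * ∑ i, (padicValNat p (β i).factorial : ℤ) - ∑ i, ∑ j, (vd p (β i) (β j) : ℤ)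

theorem TT_eq {n : ℕ} {β : Fin m → ℕ} (hβ : Function.Injective β)
    (hs : ∑ i, β i = n + ∑ i : Fin m, (i : ℕ)) :
    2 * (padicValNat p (Int.natAbs (FM (Multiset.replicate n 1) β)) : ℤ) + TT p β =
      2 * (padicValNat p n.factorial : ℤ) := by
  have h := val_formula (p := p) hβ hs
  unfold TT
  have h' := congrArg (Nat.cast : ℕ → ℤ) h
  simp only [Nat.cast_add, Nat.cast_mul, Nat.cast_sum, Nat.cast_ofNat] at h'
  linarith

theorem sum_sum_split (j : Fin m) (f : Fin m → Fin m → ℤ) (hs : ∀ i k, f i k = f k i)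
    (h0 : ∀ i, f i i = 0) :
    ∑ i, ∑ k, f i k = ∑ i ∈ univ.erase j, ∑ k ∈ univ.erase j, f i k +
      2 * ∑ k ∈ univ.erase j, f j k := by
  have h1 : ∀ g : Fin m → ℤ, ∑ i, g i = ∑ i ∈ univ.erase j, g i + g j := fun g =>
    (Finset.sum_erase_add _ _ (mem_univ j)).symm
  rw [h1]
  rw [Finset.sum_congr rfl (fun i _ => h1 (fun k => f i k)), Finset.sum_add_distrib, h1 (fun k => f j k),
    h0 j, Finset.sum_congr rfl (fun i _ => hs i j)]
  ring

/-- Replacing one entry. -/
theorem TT_update (β : Fin m → ℕ) (j : Fin m) (y : ℕ) :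
    TT p (Function.update β j y) = TT p β + 2 * (padicValNat p y.factorial : ℤ) -
      2 * (padicValNat p (β j).factorial : ℤ) -
      2 * ∑ i ∈ univ.erase j, (vd p y (β i) : ℤ) + 2 * ∑ i ∈ univ.erase j, (vd p (β j) (β i) : ℤ) := by
  unfold TT
  rw [sum_sum_split j (fun i k => (vd p (β i) (β k) : ℤ))
      (fun i k => by show ((vd p (β i) (β k) : ℕ) : ℤ) = _; rw [vd_comm])
      (fun i => by show ((vd p (β i) (β i) : ℕ) : ℤ) = _; rw [vd_self]; rfl),
    sum_sum_split j (fun i k => (vd p (Function.update β j y i) (Function.update β j y k) : ℤ))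
      (fun i k => by
        show ((vd p (Function.update β j y i) (Function.update β j y k) : ℕ) : ℤ) = _; rw [vd_comm])
      (fun i => by
        show ((vd p (Function.update β j y i) (Function.update β j y i) : ℕ) : ℤ) = _
        rw [vd_self]; rfl),
    ← Finset.sum_erase_add _ _ (mem_univ j),
    ← Finset.sum_erase_add _ (fun i => (padicValNat p (β i).factorial : ℤ)) (mem_univ j)]
  have hne : ∀ i ∈ univ.erase j, Function.update β j y i = β i := fun i hi =>
    Function.update_of_ne (Finset.ne_of_mem_erase hi) _ _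
  rw [Function.update_self, Finset.sum_congr rfl (fun i hi => by rw [hne i hi]),
    Finset.sum_congr rfl (fun i hi => Finset.sum_congr rfl (fun k hk => by rw [hne i hi, hne k hk])),
    Finset.sum_congr (s₁ := univ.erase j) (s₂ := univ.erase j)
      (f := fun k => (vd p y (Function.update β j y k) : ℤ)) (g := fun k => (vd p y (β k) : ℤ)) rfl
      (fun k hk => by rw [hne k hk])]
  ring

theorem val_sub_factorial (Y : ℕ) {a : ℕ} (ha : a ≤ Y) :
    ∑ l ∈ range a, padicValNat p (Y - l) + padicValNat p (Y - a).factorial =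
      padicValNat p Y.factorial := by
  induction a with
  | zero => simp
  | succ a ih =>
    rw [Finset.sum_range_succ, ← ih (by omega)]
    have h1 : (Y - a).factorial = (Y - a) * (Y - (a + 1)).factorial := by
      have : Y - a = (Y - (a + 1)) + 1 := by omega
      rw [this, Nat.factorial_succ]
    rw [h1, padicValNat.mul (by omega) (Nat.factorial_ne_zero _)]
    ring

/-- The sum of the valuations of the distances to a full runner. -/
theorem sum_vd_ground {β : Fin m → ℕ} (hβ : Function.Injective β) (s : Finset (Fin m)) {y a : ℕ}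
    (hset : ∀ x, x % p = y % p → ((∃ i ∈ s, β i = x) ↔ x / p < a)) (ha : a ≤ y / p) :
    ∑ i ∈ s, vd p y (β i) + padicValNat p (y / p - a).factorial =
      a + padicValNat p (y / p).factorial := by
  have hpp := hp.out.pos
  have h1 : ∑ i ∈ s, vd p y (β i) = ∑ i ∈ s.filter (fun i => β i % p = y % p), vd p y (β i) := by
    rw [Finset.sum_filter]
    refine Finset.sum_congr rfl fun i _ => ?_
    by_cases h : β i % p = y % p
    · rw [if_pos h]
    · rw [if_neg h, vd_of_mod_ne (fun h' => h h'.symm)]
  have h2 : (s.filter (fun i => β i % p = y % p)).image β =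
      (range a).image (fun l => p * l + y % p) := by
    ext x
    simp only [Finset.mem_image, Finset.mem_filter, Finset.mem_range]
    constructor
    · rintro ⟨i, ⟨hi, hi'⟩, rfl⟩
      exact ⟨β i / p, (hset _ hi').mp ⟨i, hi, rfl⟩, by rw [← hi']; exact Nat.div_add_mod _ _⟩
    · rintro ⟨l, hl, rfl⟩
      have h3 : (p * l + y % p) % p = y % p := by rw [Nat.mul_add_mod, Nat.mod_mod]
      have h4 : (p * l + y % p) / p = l := by
        rw [Nat.mul_add_div hpp, Nat.div_eq_of_lt (Nat.mod_lt _ hpp), add_zero]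
      obtain ⟨i, hi, hi'⟩ := (hset _ h3).mpr (by rw [h4]; exact hl)
      exact ⟨i, ⟨hi, by rw [hi', h3]⟩, hi'⟩
  have h3 : ∑ i ∈ s.filter (fun i => β i % p = y % p), vd p y (β i) =
      ∑ l ∈ range a, vd p y (p * l + y % p) := by
    rw [← Finset.sum_image (f := fun x => vd p y x) (g := β) (fun i _ j _ h => hβ h), h2,
      Finset.sum_image]
    intro l _ l' _ h
    have h5 : p * l = p * l' := by simpa using h
    exact Nat.eq_of_mul_eq_mul_left hpp h5
  have h4 : ∀ l ∈ range a, vd p y (p * l + y % p) = 1 + padicValNat p (y / p - l) := by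
    intro l hl
    rw [Finset.mem_range] at hl
    have h5 : (p * l + y % p) / p = l := by
      rw [Nat.mul_add_div hpp, Nat.div_eq_of_lt (Nat.mod_lt _ hpp), add_zero]
    rw [vd_of_mod_eq (by rw [Nat.mul_add_mod, Nat.mod_mod]), h5, vd_of_le p (by omega)]
    intro h
    have : y / p = l := by rw [h, h5]
    omega
  rw [h1, h3, Finset.sum_congr rfl h4, Finset.sum_add_distrib, Finset.sum_const, Finset.card_range,
    smul_eq_mul, mul_one, add_assoc, val_sub_factorial _ ha]

/-- The entries on the runner of `j`, other than `β j`, are the positions below `β j`. -/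
def Ground (p : ℕ) (β : Fin m → ℕ) (j : Fin m) : Prop :=
  ∀ x, x % p = β j % p → ((∃ i, i ≠ j ∧ β i = x) ↔ x < β j)

theorem lt_iff_div_lt {x y : ℕ} (h : x % p = y % p) : x < y ↔ x / p < y / p := by
  have h1 := Nat.div_add_mod x p
  have h2 := Nat.div_add_mod y p
  have hpp := hp.out.pos
  constructor
  · intro h3
    by_contra h4
    push Not at h4
    have := Nat.mul_le_mul_left p h4
    omega
  · intro h3
    have := Nat.mul_lt_mul_of_pos_left h3 hpp
    omega

theorem Ground.injective {β : Fin m → ℕ} (hβ : Function.Injective β) {j : Fin m}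
    (hg : Ground p β j) (r : ℕ) : Function.Injective (up β j (p * r)) := by
  have key : ∀ i, i ≠ j → β i ≠ β j + p * r := by
    intro i hi h
    have h1 := (hg (β i) (by rw [h, Nat.add_mul_mod_self_left])).mp ⟨i, hi, rfl⟩
    omega
  intro a b hab
  by_cases ha : a = j
  · by_cases hb : b = j
    · rw [ha, hb]
    · subst ha
      rw [up_self, up_ne β _ hb] at hab
      exact absurd hab.symm (key b hb)
  · by_cases hb : b = j
    · subst hb
      rw [up_self, up_ne β _ ha] at hab
      exact absurd hab (key a ha)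
    · rw [up_ne β _ ha, up_ne β _ hb] at hab
      exact hβ hab

/-- **Raising the highest entry of a full runner.** -/
theorem Ground.TT_up {β : Fin m → ℕ} (hβ : Function.Injective β) {j : Fin m}
    (hg : Ground p β j) (r : ℕ) :
    TT p (up β j (p * r)) = TT p β + 2 * ((r : ℤ) + (padicValNat p r.factorial : ℤ)) := by
  have hpp := hp.out.pos
  have hset : ∀ y, y % p = β j % p → ∀ x, x % p = y % p →
      ((∃ i ∈ univ.erase j, β i = x) ↔ x / p < β j / p) := by
    intro y hy x hx
    rw [← lt_iff_div_lt (hx.trans hy), ← hg x (hx.trans hy)]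
    simp
  have h1 := sum_vd_ground hβ (univ.erase j) (y := β j + p * r) (a := β j / p)
    (hset _ (Nat.add_mul_mod_self_left _ _ _)) (Nat.div_le_div_right (Nat.le_add_right _ _))
  have h2 := sum_vd_ground hβ (univ.erase j) (y := β j) (a := β j / p) (hset _ rfl) le_rfl
  rw [Nat.add_mul_div_left _ _ hpp, Nat.add_sub_cancel_left] at h1
  rw [Nat.sub_self] at h2
  have h3 := val_factorial (p := p) (β j + p * r)
  have h4 := val_factorial (p := p) (β j)
  rw [Nat.add_mul_div_left _ _ hpp] at h3
  unfold up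
  rw [TT_update]
  have h1' := congrArg (Nat.cast : ℕ → ℤ) h1
  have h2' := congrArg (Nat.cast : ℕ → ℤ) h2
  have h3' := congrArg (Nat.cast : ℕ → ℤ) h3
  have h4' := congrArg (Nat.cast : ℕ → ℤ) h4
  rw [Nat.factorial_zero, padicValNat_one_right] at h2'
  simp only [Nat.cast_add, Nat.cast_mul, Nat.cast_sum, Nat.cast_ofNat, Nat.cast_zero] at h1' h2' h3' h4'
  linarith

/-- Other runners are not affected. -/
theorem Ground.up_of_ne {β : Fin m → ℕ} {j k : Fin m} (hk : Ground p β k)
    (hne : β k % p ≠ β j % p) (r : ℕ) : Ground p (up β j (p * r)) k := by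
  have hkj : k ≠ j := fun h => hne (by rw [h])
  intro x hx
  rw [up_ne β _ hkj] at hx ⊢
  rw [← hk x hx]
  constructor
  · rintro ⟨i, hi, hix⟩
    by_cases hij : i = j
    · subst hij
      rw [up_self] at hix
      rw [← hix, Nat.add_mul_mod_self_left] at hx
      exact absurd hx.symm hne
    · exact ⟨i, hi, by rw [up_ne β _ hij] at hix; exact hix⟩
  · rintro ⟨i, hi, hix⟩
    have hij : i ≠ j := by
      intro hij
      subst hij
      rw [← hix] at hx
      exact hne hx.symm
    exact ⟨i, hi, by rw [up_ne β _ hij]; exact hix⟩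

/-- In a tuple of weight zero, the highest entry of each runner is in a full runner. -/
theorem exists_ground {κ : Fin m → ℕ} (hκ : Function.Injective κ)
    (hw : ∑ j, κ j / p = npairs p κ) {c : ℕ} (hc : c < p) (hcr : c ∈ Set.range κ) :
    ∃ j, κ j % p = c ∧ Ground p κ j := by
  have hpp := hp.out.pos
  have h1 := mem_range_of_weight_zero hpp hκ hw
  have h2 : 0 < res p κ c := by
    have := (h1 c).mp hcr
    rw [Nat.mod_eq_of_lt hc] at this
    exact lt_of_le_of_lt (Nat.zero_le _) this
  have h3 : p * (res p κ c - 1) + c ∈ Set.range κ := by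
    rw [h1, Nat.mul_add_mod, Nat.mod_eq_of_lt hc, Nat.mul_add_div hpp, Nat.div_eq_of_lt hc]
    omega
  obtain ⟨j, hj⟩ := h3
  have hjm : κ j % p = c := by rw [hj, Nat.mul_add_mod, Nat.mod_eq_of_lt hc]
  have hjd : κ j / p = res p κ c - 1 := by
    rw [hj, Nat.mul_add_div hpp, Nat.div_eq_of_lt hc, add_zero]
  refine ⟨j, hjm, fun x hx => ?_⟩
  rw [lt_iff_div_lt hx, hjd]
  have h4 := h1 x
  rw [hx, hjm] at h4
  constructor
  · rintro ⟨i, hi, hix⟩
    have h5 := h4.mp ⟨i, hix⟩
    by_contra h6
    have h7 : x / p = res p κ c - 1 := by omega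
    apply hi
    apply hκ
    rw [hix, hj, ← Nat.div_add_mod x p, h7, hx, hjm]
  · intro h5
    obtain ⟨i, hi⟩ := h4.mpr (by omega)
    refine ⟨i, ?_, hi⟩
    rintro rfl
    rw [← hi] at h5
    omega

/-- With many entries, the small positions are occupied. -/
theorem mem_range_of_lt {n x : ℕ} {κ : Fin m → ℕ} (hκ : StrictMono κ)
    (hs : ∑ i, κ i = n + ∑ i : Fin m, (i : ℕ)) (hx : n + x < m) : x ∈ Set.range κ := by
  by_contra hno
  have h1 : ∀ i : Fin m, x ≤ (i : ℕ) → (i : ℕ) + 1 ≤ κ i := by
    intro i hi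
    have h2 := strictMono_le hκ i
    by_contra h3
    have h4 : κ i = i := by omega
    have h5 : κ ⟨x, by omega⟩ = x := by
      have h6 := strictMono_le hκ ⟨x, by omega⟩
      have h7 : ∀ k : ℕ, ∀ hk : (i : ℕ) - k < m, κ ⟨(i : ℕ) - k, hk⟩ ≤ (i : ℕ) - k ∨ (i : ℕ) < k := by
        intro k
        induction k with
        | zero => intro hk; left; simpa using h4.le
        | succ k ih =>
          intro hk
          by_cases h8 : (i : ℕ) < k + 1
          · exact Or.inr h8
          · left
            have h9 := ih (by omega)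
            have h10 : κ ⟨(i : ℕ) - (k + 1), hk⟩ < κ ⟨(i : ℕ) - k, by omega⟩ :=
              hκ (by rw [Fin.lt_def]; show (i : ℕ) - (k + 1) < (i : ℕ) - k; omega)
            omega
      have h9 : (i : ℕ) - ((i : ℕ) - x) = x := by omega
      have h8 := h7 ((i : ℕ) - x) (by omega)
      simp only [h9] at h8
      rcases h8 with h8 | h8
      · exact le_antisymm h8 h6
      · omega
    exact hno ⟨_, h5⟩
  have h2 : ∑ i : Fin m, ((i : ℕ) + if x ≤ (i : ℕ) then 1 else 0) ≤ ∑ i, κ i := by
    refine Finset.sum_le_sum fun i _ => ?_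
    by_cases h : x ≤ (i : ℕ)
    · rw [if_pos h]; exact h1 i h
    · rw [if_neg h, add_zero]; exact strictMono_le hκ i
  rw [Finset.sum_add_distrib, hs] at h2
  have h3 : ∑ i : Fin m, (if x ≤ (i : ℕ) then 1 else 0) = m - x := by
    rw [Fin.sum_univ_eq_sum_range (fun i => if x ≤ i then 1 else 0) m, ← Finset.sum_filter,
      Finset.sum_const, smul_eq_mul, mul_one]
    have : (range m).filter (fun i => x ≤ i) = Finset.Ico x m := by
      ext i; simp [Finset.mem_Ico, and_comm]
    rw [this, Nat.card_Ico]
  omega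

end Cfsg.Agent.H614
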