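import Cfsg.Agent.H614.Degree
import Cfsg.Agent.H614.Weight
import Cfsg.Agent.Blocks.Knorr

/-!
# The `p`-part of the degrees of the characters of the symmetric groups

* `val_formula`: the `p`-adic valuation of the degree of an injective tuple;
* `height_formula`: its form in terms of the runners of the abacus.
-/

set_option autoImplicit false
set_option linter.unusedSectionVars false

namespace Cfsg.Agent.H614

open Finset

/-- `p`-adic valuation of the distance of two natural numbers (zero if they are equal). -/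
def vd (p a b : ℕ) : ℕ := padicValNat p (Int.natAbs ((a : ℤ) - b))

theorem vd_comm (p a b : ℕ) : vd p a b = vd p b a := by
  unfold vd
  congr 1
  omega

theorem vd_self (p a : ℕ) : vd p a a = 0 := by
  simp [vd]

theorem vd_add_right (p a b c : ℕ) : vd p (a + c) (b + c) = vd p a b := by
  unfold vd
  congr 1
  push_cast
  omega

theorem vd_of_le (p : ℕ) {a b : ℕ} (h : b ≤ a) : vd p a b = padicValNat p (a - b) := by
  unfold vd
  congr 1
  omega

theorem natAbs_finset_prod {ι : Type*} (s : Finset ι) (f : ι → ℤ) :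
    (∏ i ∈ s, f i).natAbs = ∏ i ∈ s, (f i).natAbs := map_prod Int.natAbsHom f s

section Prod

variable {ι : Type*} {p : ℕ} [hp : Fact p.Prime]

theorem padicValNat_finset_prod (s : Finset ι) (f : ι → ℕ) (hf : ∀ i ∈ s, f i ≠ 0) :
    padicValNat p (∏ i ∈ s, f i) = ∑ i ∈ s, padicValNat p (f i) := by
  classical
  induction s using Finset.induction_on with
  | empty => simp
  | insert a s ha ih =>
    rw [Finset.prod_insert ha, Finset.sum_insert ha, padicValNat.mul (hf a (mem_insert_self a s)),
      ih (fun i hi => hf i (mem_insert_of_mem hi))]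
    exact Finset.prod_ne_zero_iff.mpr (fun i hi => hf i (mem_insert_of_mem hi))

end Prod

variable {m : ℕ} {p : ℕ} [hp : Fact p.Prime]

/-- Twice the sum over the pairs `i < j` of a symmetric function vanishing on the diagonal. -/
theorem two_mul_sum_Ioi (f : Fin m → Fin m → ℕ) (hs : ∀ i j, f i j = f j i) (h0 : ∀ i, f i i = 0) :
    2 * ∑ i : Fin m, ∑ j ∈ Finset.Ioi i, f i j = ∑ i, ∑ j, f i j := by
  have h1 : ∀ i : Fin m, ∑ j ∈ Finset.Ioi i, f i j = ∑ j, if i < j then f i j else 0 := by
    intro i
    rw [← Finset.sum_filter]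
    refine Finset.sum_congr ?_ fun _ _ => rfl
    ext j; simp
  simp only [h1]
  rw [two_mul]
  nth_rewrite 2 [Finset.sum_comm]
  rw [← Finset.sum_add_distrib]
  refine Finset.sum_congr rfl fun i _ => ?_
  rw [← Finset.sum_add_distrib]
  refine Finset.sum_congr rfl fun j _ => ?_
  rcases lt_trichotomy i j with h | h | h
  · simp [h, h.not_gt]
  · subst h; simp [h0]
  · simp [h, h.not_gt, hs j i]

/-- **The valuation of the degree.** -/
theorem val_formula {n : ℕ} {β : Fin m → ℕ} (hβ : Function.Injective β)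
    (hs : ∑ i, β i = n + ∑ i : Fin m, (i : ℕ)) :
    2 * padicValNat p (Int.natAbs (FM (Multiset.replicate n 1) β)) +
      2 * ∑ i, padicValNat p (β i).factorial =
      2 * padicValNat p n.factorial + ∑ i, ∑ j, vd p (β i) (β j) := by
  have h0 : FM (Multiset.replicate n 1) β ≠ 0 := by
    set σ := Tuple.sort β with hσ
    have hmono : Monotone (β ∘ σ) := Tuple.monotone_sort β
    have hst : StrictMono (β ∘ σ) := hmono.strictMono_of_injective (hβ.comp σ.injective)
    have h1 := FM_ones_pos n hst (by rw [← hs]; exact Equiv.sum_comp σ β)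
    intro h0
    rw [FM_alt, h0] at h1
    simp at h1
  have h1 := congrArg Int.natAbs (FM_ones_formula n β hs)
  rw [Int.natAbs_mul, Int.natAbs_mul, Int.natAbs_natCast] at h1
  simp only [natAbs_finset_prod, Int.natAbs_natCast] at h1
  have hfac : ∏ i, (β i).factorial ≠ 0 :=
    Finset.prod_ne_zero_iff.mpr fun i _ => Nat.factorial_ne_zero _
  have hdist : ∀ i : Fin m, ∀ j ∈ Finset.Ioi i, Int.natAbs ((β j : ℤ) - β i) ≠ 0 := by
    intro i j hj
    rw [Finset.mem_Ioi] at hj
    intro h
    have h2 : β j = β i := by omega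
    exact hj.ne' (hβ h2)
  have hprod : ∀ i ∈ (Finset.univ : Finset (Fin m)),
      ∏ j ∈ Finset.Ioi i, Int.natAbs ((β j : ℤ) - β i) ≠ 0 := fun i _ =>
    Finset.prod_ne_zero_iff.mpr (hdist i)
  have h2 := congrArg (padicValNat p) h1
  rw [padicValNat.mul (Int.natAbs_ne_zero.mpr h0) hfac,
    padicValNat.mul (Nat.factorial_ne_zero _) (Finset.prod_ne_zero_iff.mpr hprod),
    padicValNat_finset_prod _ _ (fun i _ => Nat.factorial_ne_zero _),
    padicValNat_finset_prod _ _ hprod,
    Finset.sum_congr rfl (fun i _ => padicValNat_finset_prod _ _ (hdist i))] at h2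
  have h3 := two_mul_sum_Ioi (fun i j => vd p (β j) (β i)) (fun i j => vd_comm _ _ _)
    (fun i => vd_self _ _)
  have h4 : ∑ i, ∑ j, vd p (β i) (β j) = ∑ i, ∑ j, vd p (β j) (β i) :=
    Finset.sum_congr rfl fun i _ => Finset.sum_congr rfl fun j _ => vd_comm _ _ _
  rw [h4, ← h3, ← mul_add, h2, mul_add]
  rfl

/-! ### Residues -/

theorem val_factorial (b : ℕ) :
    padicValNat p b.factorial = b / p + padicValNat p (b / p).factorial := by
  conv_lhs => rw [← Nat.div_add_mod b p]
  rw [padicValNat_factorial_mul_add _ (Nat.mod_lt _ hp.out.pos), padicValNat_factorial_mul, add_comm]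

theorem vd_of_mod_ne {a b : ℕ} (h : a % p ≠ b % p) : vd p a b = 0 := by
  unfold vd
  apply padicValNat.eq_zero_of_not_dvd
  intro h1
  apply h
  have h2 : (p : ℤ) ∣ (a : ℤ) - b := Int.natCast_dvd.mpr h1
  exact (Nat.modEq_iff_dvd.mpr (by
    rw [← neg_sub]; exact (dvd_neg.mpr h2)))

theorem vd_of_mod_eq {a b : ℕ} (h : a % p = b % p) (hne : a ≠ b) :
    vd p a b = 1 + vd p (a / p) (b / p) := by
  wlog hlt : b < a generalizing a b
  · rw [vd_comm p a b, vd_comm p (a / p) (b / p)]
    exact this h.symm hne.symm (by omega)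
  have h1 := Nat.div_add_mod a p
  have h2 := Nat.div_add_mod b p
  have h3 : b / p ≤ a / p := Nat.div_le_div_right hlt.le
  rw [vd_of_le p hlt.le, vd_of_le p h3]
  have h4 : a - b = p * (a / p - b / p) := by
    rw [Nat.mul_sub]
    omega
  have h5 : a / p - b / p ≠ 0 := by
    intro h0
    rw [h0, mul_zero] at h4
    omega
  rw [h4, padicValNat.mul hp.out.ne_zero h5, padicValNat_self]

/-- The two valuations, split by residues. -/
theorem sum_vd_split {ι : Type*} [Fintype ι] [DecidableEq ι] {β : ι → ℕ} (hβ : Function.Injective β) :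
    ∑ i, ∑ j, vd p (β i) (β j) =
      ∑ i, ∑ j, (if β i % p = β j % p ∧ i ≠ j then 1 else 0) +
      ∑ i, ∑ j, (if β i % p = β j % p then vd p (β i / p) (β j / p) else 0) := by
  rw [← Finset.sum_add_distrib]
  refine Finset.sum_congr rfl fun i _ => ?_
  rw [← Finset.sum_add_distrib]
  refine Finset.sum_congr rfl fun j _ => ?_
  by_cases hij : i = j
  · subst hij; simp [vd_self]
  · by_cases h : β i % p = β j % p
    · rw [if_pos ⟨h, hij⟩, if_pos h, vd_of_mod_eq h (fun h' => hij (hβ h'))]
    · rw [if_neg (fun h' => h h'.1), if_neg h, vd_of_mod_ne h]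

theorem sum_same_eq_two_npairs (β : Fin m → ℕ) :
    ∑ i, ∑ j, (if β i % p = β j % p ∧ i ≠ j then 1 else 0) = 2 * npairs p β := by
  have h1 := two_mul_sum_Ioi (fun i j => if β i % p = β j % p ∧ i ≠ j then 1 else 0)
    (fun i j => by
      refine if_congr ?_ rfl rfl
      constructor
      · rintro ⟨h, h'⟩; exact ⟨h.symm, h'.symm⟩
      · rintro ⟨h, h'⟩; exact ⟨h.symm, h'.symm⟩) (fun i => by simp)
  rw [← h1]
  congr 1
  unfold npairs
  rw [Finset.card_filter, Fintype.sum_prod_type]
  refine Finset.sum_congr rfl fun i _ => ?_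
  rw [← Finset.sum_filter_add_sum_filter_not univ (fun j => i < j)
    (fun j => if i < j ∧ β i % p = β j % p then 1 else 0)]
  have h2 : ∑ j with ¬ i < j, (if i < j ∧ β i % p = β j % p then 1 else 0) = 0 :=
    Finset.sum_eq_zero fun j hj => if_neg (fun h => (Finset.mem_filter.mp hj).2 h.1)
  rw [h2, add_zero]
  refine Finset.sum_congr (by ext j; simp) fun j hj => ?_
  have hj' : i < j := (Finset.mem_filter.mp hj).2
  refine if_congr ?_ rfl rfl
  constructor
  · rintro ⟨h, -⟩; exact ⟨hj', h⟩
  · rintro ⟨-, h⟩; exact ⟨h, hj'.ne⟩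

/-- The formula for a finite index type. -/
theorem class_formula {ι : Type*} [Fintype ι] {a : ι → ℕ} (ha : Function.Injective a) :
    ∃ w f : ℕ, ∑ i, a i = w + (Fintype.card ι).choose 2 ∧ f ∣ w.factorial ∧
      2 * padicValNat p f + 2 * ∑ i, padicValNat p (a i).factorial =
        2 * padicValNat p w.factorial + ∑ i, ∑ j, vd p (a i) (a j) := by
  classical
  set k := Fintype.card ι with hk
  set e : Fin k ≃ ι := (Fintype.equivFin ι).symm with he
  set σ := Tuple.sort (a ∘ e) with hσ
  have hinj : Function.Injective (a ∘ e) := ha.comp e.injective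
  have hmono : Monotone ((a ∘ e) ∘ σ) := Tuple.monotone_sort (a ∘ e)
  have hst : StrictMono ((a ∘ e) ∘ σ) := hmono.strictMono_of_injective (hinj.comp σ.injective)
  set c := (a ∘ e) ∘ σ with hc
  have hle := sum_le_of_injective hst.injective
  obtain ⟨w, hw⟩ : ∃ w, ∑ i, c i = w + ∑ i : Fin k, (i : ℕ) :=
    ⟨_, (Nat.sub_add_cancel hle).symm⟩
  have hsum : ∀ g : ι → ℕ, ∑ i, g i = ∑ i : Fin k, g (e (σ i)) := fun g =>
    ((Equiv.sum_comp σ (fun i => g (e i))).trans (Equiv.sum_comp e g)).symm
  have hirr := isIrr_ch (α := Fin w) hst (by rw [Fintype.card_fin]; exact hw)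
  have hdeg := Blocks.Knorr.charDegree_dvd hirr
  obtain ⟨d, hd, hd'⟩ := ch_one_pos (α := Fin w) hst (by rw [Fintype.card_fin]; exact hw)
  rw [Blocks.Knorr.charDegree_of_natCast hd', Nat.card_eq_fintype_card, Fintype.card_perm,
    Fintype.card_fin] at hdeg
  have hdF : Int.natAbs (FM (Multiset.replicate w 1) c) = d := by
    rw [ch_apply, ty_one, Fintype.card_fin] at hd'
    have h2 : FM (Multiset.replicate w 1) c = d := by exact_mod_cast hd'
    rw [h2]; simp
  refine ⟨w, d, ?_, hdeg, ?_⟩
  · rw [hsum a]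
    have h3 : ∑ i : Fin k, a (e (σ i)) = ∑ i, c i := rfl
    rw [h3, hw, Fin.sum_univ_eq_sum_range (fun i => i) k, Finset.sum_range_id,
      Nat.choose_two_right]
  · have h3 := val_formula (p := p) (n := w) hst.injective hw
    rw [hdF] at h3
    rw [hsum (fun i => padicValNat p (a i).factorial), hsum (fun i => ∑ j, vd p (a i) (a j))]
    simp only [hsum (fun j => vd p (a _) (a j))]
    exact h3

/-! ### Sums over the runners -/

theorem sum_runner (β : Fin m → ℕ) (g : Fin m → ℕ) :
    ∑ c ∈ range p, ∑ i : {i : Fin m // β i % p = c}, g i = ∑ i, g i := by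
  have h1 : ∀ c, ∑ i : {i : Fin m // β i % p = c}, g i =
      ∑ i ∈ univ.filter (fun i => β i % p = c), g i := fun c =>
    (Finset.sum_subtype _ (by simp) g).symm
  rw [Finset.sum_congr rfl (fun c _ => h1 c)]
  exact Finset.sum_fiberwise_of_maps_to (fun i _ => mem_range.mpr (Nat.mod_lt _ hp.out.pos)) g

theorem sum_runner_pair (β : Fin m → ℕ) (g : Fin m → Fin m → ℕ) :
    ∑ c ∈ range p, ∑ i : {i : Fin m // β i % p = c}, ∑ j : {i : Fin m // β i % p = c}, g i j =
      ∑ i, ∑ j, if β i % p = β j % p then g i j else 0 := by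
  rw [← sum_runner (p := p) β (fun i => ∑ j, if β i % p = β j % p then g i j else 0)]
  refine Finset.sum_congr rfl fun c _ => Finset.sum_congr rfl fun i _ => ?_
  rw [← Finset.sum_filter, ← Finset.sum_subtype (univ.filter (fun j => β j % p = c)) (by simp)
    (fun j => g i j)]
  refine Finset.sum_congr ?_ fun _ _ => rfl
  ext j
  simp only [Finset.mem_filter, Finset.mem_univ, true_and]
  rw [i.2]
  exact eq_comm

theorem sum_choose_runner (β : Fin m → ℕ) :
    ∑ c ∈ range p, (Fintype.card {i : Fin m // β i % p = c}).choose 2 = npairs p β := by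
  have h1 := sum_runner_pair (p := p) β (fun i j => if i ≠ j then 1 else 0)
  have h2 : ∀ c, ∑ i : {i : Fin m // β i % p = c}, ∑ j : {i : Fin m // β i % p = c},
      (if (i : Fin m) ≠ j then 1 else 0) =
      2 * (Fintype.card {i : Fin m // β i % p = c}).choose 2 := by
    intro c
    have h3 : ∀ i : {i : Fin m // β i % p = c}, ∑ j : {i : Fin m // β i % p = c},
        (if (i : Fin m) ≠ j then 1 else 0) = Fintype.card {i : Fin m // β i % p = c} - 1 := by
      intro i
      rw [← Finset.card_filter, ← Finset.card_univ, ← Finset.card_erase_of_mem (mem_univ i)]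
      congr 1
      ext j
      simp only [Finset.mem_filter, Finset.mem_univ, true_and, Finset.mem_erase, and_true]
      rw [ne_comm, Ne, Ne, Subtype.ext_iff]
    rw [Finset.sum_congr rfl (fun i _ => h3 i), Finset.sum_const, Finset.card_univ, smul_eq_mul,
      Nat.choose_two_right, Nat.mul_div_cancel' (Nat.even_mul_pred_self _).two_dvd]
  rw [Finset.sum_congr rfl (fun c _ => h2 c), ← Finset.mul_sum] at h1
  have h4 := sum_same_eq_two_npairs (p := p) β
  have h5 : ∑ i, ∑ j, (if β i % p = β j % p then (if i ≠ j then 1 else 0) else 0) =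
      ∑ i, ∑ j, (if β i % p = β j % p ∧ i ≠ j then 1 else 0) :=
    Finset.sum_congr rfl fun i _ => Finset.sum_congr rfl fun j _ => by
      by_cases h : β i % p = β j % p <;> by_cases h' : i ≠ j <;> simp [h, h']
  rw [h5, h4] at h1
  omega

/-- **The valuation of the degree in terms of the runners.** -/
theorem height_formula {n w : ℕ} {β : Fin m → ℕ} (hβ : Function.Injective β)
    (hs : ∑ i, β i = n + ∑ i : Fin m, (i : ℕ)) (hw : ∑ j, β j / p = w + npairs p β) :
    ∃ ws fs : ℕ → ℕ, ∑ c ∈ range p, ws c = w ∧ (∀ c, fs c ∣ (ws c).factorial) ∧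
      padicValNat p (Int.natAbs (FM (Multiset.replicate n 1) β)) + w +
        ∑ c ∈ range p, padicValNat p (ws c).factorial =
      padicValNat p n.factorial + ∑ c ∈ range p, padicValNat p (fs c) := by
  have hcl : ∀ c : ℕ, ∃ wf : ℕ × ℕ, ∑ i : {i : Fin m // β i % p = c}, β i / p =
      wf.1 + (Fintype.card {i : Fin m // β i % p = c}).choose 2 ∧ wf.2 ∣ wf.1.factorial ∧
      2 * padicValNat p wf.2 + 2 * ∑ i : {i : Fin m // β i % p = c},
        padicValNat p (β i / p).factorial = 2 * padicValNat p wf.1.factorial +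
        ∑ i : {i : Fin m // β i % p = c}, ∑ j : {i : Fin m // β i % p = c},
          vd p (β i / p) (β j / p) := by
    intro c
    have hinj : Function.Injective (fun i : {i : Fin m // β i % p = c} => β i / p) := by
      intro i j hij
      apply Subtype.ext
      apply hβ
      have h1 := Nat.div_add_mod (β i) p
      have h2 := Nat.div_add_mod (β j) p
      have h3 : β i / p = β j / p := hij
      rw [← h1, ← h2, h3, i.2, j.2]
    obtain ⟨w, f, h1, h2, h3⟩ := class_formula (p := p) hinj
    exact ⟨(w, f), h1, h2, h3⟩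
  choose wf h1 h2 h3 using hcl
  refine ⟨fun c => (wf c).1, fun c => (wf c).2, ?_, h2, ?_⟩
  · have h4 := sum_runner (p := p) β (fun i => β i / p)
    rw [Finset.sum_congr rfl (fun c _ => h1 c), Finset.sum_add_distrib, sum_choose_runner] at h4
    show ∑ c ∈ range p, (wf c).1 = w
    omega
  · have h4 := val_formula (p := p) hβ hs
    rw [sum_vd_split hβ, sum_same_eq_two_npairs] at h4
    have h5 : ∑ i, padicValNat p (β i).factorial =
        (w + npairs p β) + ∑ i, padicValNat p (β i / p).factorial := by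
      rw [← hw, ← Finset.sum_add_distrib]
      exact Finset.sum_congr rfl fun i _ => val_factorial (β i)
    have h6 := sum_runner (p := p) β (fun i => padicValNat p (β i / p).factorial)
    have h7 := sum_runner_pair (p := p) β (fun i j => vd p (β i / p) (β j / p))
    have h8 := Finset.sum_congr rfl (fun c (_ : c ∈ range p) => h3 c)
    rw [Finset.sum_add_distrib, Finset.sum_add_distrib, ← Finset.mul_sum, ← Finset.mul_sum,
      ← Finset.mul_sum, h6, h7] at h8
    rw [h5] at h4
    simp only
    omega

/-- The valuation of the degree, lower bound. -/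
theorem val_ge {n w : ℕ} {β : Fin m → ℕ} (hβ : Function.Injective β)
    (hs : ∑ i, β i = n + ∑ i : Fin m, (i : ℕ)) (hw : ∑ j, β j / p = w + npairs p β) :
    padicValNat p n.factorial ≤
      padicValNat p (Int.natAbs (FM (Multiset.replicate n 1) β)) + w + padicValNat p w.factorial := by
  obtain ⟨ws, fs, h1, h2, h3⟩ := height_formula hβ hs hw
  have h4 : ∑ c ∈ range p, padicValNat p (ws c).factorial ≤ padicValNat p w.factorial := by
    rw [← padicValNat_finset_prod _ _ (fun c _ => Nat.factorial_ne_zero _), ← h1]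
    exact (padicValNat_dvd_iff_le (Nat.factorial_ne_zero _)).mp
      (pow_padicValNat_dvd.trans (Nat.prod_factorial_dvd_factorial_sum _ _))
  omega

/-- For weights less than `p` the heights are zero. -/
theorem val_eq_of_lt {n w : ℕ} {β : Fin m → ℕ} (hβ : Function.Injective β)
    (hs : ∑ i, β i = n + ∑ i : Fin m, (i : ℕ)) (hw : ∑ j, β j / p = w + npairs p β)
    (hwp : w < p) :
    padicValNat p (Int.natAbs (FM (Multiset.replicate n 1) β)) + w = padicValNat p n.factorial := by
  obtain ⟨ws, fs, h1, h2, h3⟩ := height_formula hβ hs hw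
  have h4 : ∀ c ∈ range p, padicValNat p (ws c).factorial = 0 := by
    intro c hc
    apply padicValNat.eq_zero_of_not_dvd
    rw [hp.out.dvd_factorial]
    have : ws c ≤ w := by rw [← h1]; exact Finset.single_le_sum (fun _ _ => Nat.zero_le _) hc
    omega
  have h5 : ∀ c ∈ range p, padicValNat p (fs c) = 0 := by
    intro c hc
    apply padicValNat.eq_zero_of_not_dvd
    intro hd
    have h6 : p ∣ (ws c).factorial := hd.trans (h2 c)
    rw [hp.out.dvd_factorial] at h6
    have : ws c ≤ w := by rw [← h1]; exact Finset.single_le_sum (fun _ _ => Nat.zero_le _) hc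
    omega
  rw [Finset.sum_eq_zero h4, Finset.sum_eq_zero h5] at h3
  omega

end Cfsg.Agent.H614
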